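import Cfsg.Agent.H12.CentralExt.TwoBase
import Cfsg.Agent.H12.CentralExt.G23Data
import Cfsg.Agent.H69.G2Three.Fusion

/-!
Two generators of the Chevalley group G2(3) satisfying the relators of the certificate, with their
matrices.
-/

set_option autoImplicit false
set_option maxRecDepth 100000

namespace Cfsg.Agent.H12.CExt.G23

open Cfsg Cfsg.Lie Cfsg.Agent.H46 Cfsg.Agent.H69.G2Three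
open scoped Matrix

local instance : Fact (Nat.Prime 3) := ⟨by norm_num⟩

/-- The root elements with parameter two. -/
noncomputable def el (r : ℕ) : ↥(chevG2.group (ZMod 3)) :=
  ⟨goodG2.xg r 2, goodG2.xg_mem_group r 2⟩

/-- Their matrices. -/
def rootLit : List Lit :=
  [[[1,0,0,0,0,0,0,0,0,0,0,0,0,1],
   [0,1,0,0,0,0,0,0,0,0,0,0,0,2],
   [0,2,1,0,0,0,0,0,0,0,0,0,0,2],
   [0,0,0,1,0,0,0,0,2,0,0,0,0,0],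
   [0,0,0,0,1,0,0,0,0,0,2,0,0,0],
   [0,0,0,0,0,1,0,0,0,0,0,1,0,0],
   [0,0,0,0,0,0,1,0,0,0,0,0,0,0],
   [0,0,0,0,0,0,0,1,0,0,0,0,1,0],
   [0,0,0,0,0,0,0,0,1,0,0,0,0,0],
   [0,0,0,0,0,0,0,0,0,1,0,0,0,0],
   [0,0,0,0,0,0,0,0,0,0,1,0,0,0],
   [0,0,0,0,0,0,0,0,0,0,0,1,0,0],
   [0,0,0,0,0,0,0,0,0,0,0,0,1,0],
   [0,0,0,0,0,0,0,0,0,0,0,0,0,1]],
  [[1,0,0,0,0,0,0,0,0,0,0,0,1,0],
   [0,1,0,0,0,0,0,0,0,0,0,0,1,0],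
   [0,0,1,0,0,0,0,2,0,0,0,0,0,0],
   [0,1,0,1,0,0,0,0,0,0,0,0,2,0],
   [0,0,0,0,1,0,0,0,0,2,0,0,0,0],
   [0,0,0,0,0,1,0,0,0,0,0,0,0,0],
   [0,0,0,0,0,0,1,0,0,0,0,1,0,0],
   [0,0,0,0,0,0,0,1,0,0,0,0,0,0],
   [0,0,0,0,0,0,0,0,1,0,0,0,0,1],
   [0,0,0,0,0,0,0,0,0,1,0,0,0,0],
   [0,0,0,0,0,0,0,0,0,0,1,0,0,0],
   [0,0,0,0,0,0,0,0,0,0,0,1,0,0],
   [0,0,0,0,0,0,0,0,0,0,0,0,1,0],
   [0,0,0,0,0,0,0,0,0,0,0,0,0,1]],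
  [[1,0,0,0,0,0,0,0,0,0,0,2,0,0],
   [0,1,0,0,0,0,0,0,0,0,0,0,0,0],
   [0,0,1,0,0,0,0,0,0,0,0,0,2,0],
   [0,0,0,1,0,0,0,0,0,0,0,0,0,1],
   [2,0,0,0,1,0,0,0,0,0,0,2,0,0],
   [0,0,0,0,0,1,0,0,0,2,0,0,1,0],
   [0,0,0,0,0,0,1,0,0,0,1,0,0,2],
   [0,0,0,0,0,0,0,1,0,0,0,0,0,0],
   [0,0,0,0,0,0,0,0,1,0,0,0,0,0],
   [0,0,0,0,0,0,0,0,0,1,0,0,1,0],
   [0,0,0,0,0,0,0,0,0,0,1,0,0,1],
   [0,0,0,0,0,0,0,0,0,0,0,1,0,0],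
   [0,0,0,0,0,0,0,0,0,0,0,0,1,0],
   [0,0,0,0,0,0,0,0,0,0,0,0,0,1]],
  [[1,0,0,0,0,0,0,0,0,0,1,0,0,0],
   [0,1,0,0,0,0,0,0,0,0,0,0,0,0],
   [0,0,1,0,0,0,0,0,2,0,0,0,0,0],
   [0,0,0,1,0,0,0,0,0,0,0,0,0,0],
   [0,0,0,0,1,0,2,0,2,0,0,0,0,0],
   [1,2,0,0,0,1,0,0,0,0,2,0,0,0],
   [0,0,0,0,0,0,1,0,2,0,0,0,0,0],
   [0,0,0,0,0,0,0,1,0,0,0,0,0,1],
   [0,0,0,0,0,0,0,0,1,0,0,0,0,0],
   [0,0,0,0,0,0,0,0,0,1,0,1,0,1],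
   [0,0,0,0,0,0,0,0,0,0,1,0,0,0],
   [0,0,0,0,0,0,0,0,0,0,0,1,0,2],
   [0,0,0,0,0,0,0,0,0,0,0,0,1,0],
   [0,0,0,0,0,0,0,0,0,0,0,0,0,1]],
  [[1,0,0,0,0,0,0,0,0,1,0,0,0,0],
   [0,1,0,0,0,0,0,0,0,0,0,0,0,0],
   [0,0,1,0,0,0,0,0,0,0,0,0,0,0],
   [0,0,0,1,0,0,0,1,0,0,0,0,0,0],
   [0,0,0,0,1,1,0,1,0,0,0,0,0,0],
   [0,0,0,0,0,1,0,2,0,0,0,0,0,0],
   [1,1,0,0,0,0,1,0,0,2,0,0,0,0],
   [0,0,0,0,0,0,0,1,0,0,0,0,0,0],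
   [0,0,0,0,0,0,0,0,1,0,0,0,2,0],
   [0,0,0,0,0,0,0,0,0,1,0,0,0,0],
   [0,0,0,0,0,0,0,0,0,0,1,2,2,0],
   [0,0,0,0,0,0,0,0,0,0,0,1,2,0],
   [0,0,0,0,0,0,0,0,0,0,0,0,1,0],
   [0,0,0,0,0,0,0,0,0,0,0,0,0,1]],
  [[1,0,0,0,0,0,0,0,0,0,0,0,0,0],
   [0,1,0,0,0,0,0,0,1,0,0,0,0,0],
   [0,0,1,1,0,0,0,0,0,0,0,0,0,0],
   [0,0,0,1,0,0,0,0,0,0,0,0,0,0],
   [0,0,0,0,1,0,0,0,0,0,0,0,0,0],
   [0,0,0,0,0,1,1,0,0,0,0,0,0,0],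
   [0,0,0,0,0,0,1,0,0,0,0,0,0,0],
   [0,1,0,0,0,0,0,1,2,0,0,0,0,0],
   [0,0,0,0,0,0,0,0,1,0,0,0,0,0],
   [0,0,0,0,0,0,0,0,0,1,2,0,0,0],
   [0,0,0,0,0,0,0,0,0,0,1,0,0,0],
   [0,0,0,0,0,0,0,0,0,0,0,1,0,0],
   [0,0,0,0,0,0,0,0,0,0,0,0,1,2],
   [0,0,0,0,0,0,0,0,0,0,0,0,0,1]],
  [[1,0,0,0,0,0,0,0,0,0,0,0,0,0],
   [0,1,0,0,0,0,0,2,0,0,0,0,0,0],
   [0,0,1,0,0,0,0,0,0,0,0,0,0,0],
   [0,0,1,1,0,0,0,0,0,0,0,0,0,0],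
   [0,0,0,0,1,0,0,0,0,0,0,0,0,0],
   [0,0,0,0,0,1,0,0,0,0,0,0,0,0],
   [0,0,0,0,0,1,1,0,0,0,0,0,0,0],
   [0,0,0,0,0,0,0,1,0,0,0,0,0,0],
   [0,2,0,0,0,0,0,2,1,0,0,0,0,0],
   [0,0,0,0,0,0,0,0,0,1,0,0,0,0],
   [0,0,0,0,0,0,0,0,0,2,1,0,0,0],
   [0,0,0,0,0,0,0,0,0,0,0,1,0,0],
   [0,0,0,0,0,0,0,0,0,0,0,0,1,0],
   [0,0,0,0,0,0,0,0,0,0,0,0,2,1]],
  [[1,0,0,0,0,0,2,0,0,0,0,0,0,0],
   [0,1,0,0,0,0,0,0,0,0,0,0,0,0],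
   [0,0,1,0,0,0,0,0,0,0,0,0,0,0],
   [0,0,0,1,0,0,0,0,0,0,0,0,0,0],
   [0,0,0,1,1,0,0,0,0,0,0,0,0,0],
   [0,0,0,2,1,1,0,0,0,0,0,0,0,0],
   [0,0,0,0,0,0,1,0,0,0,0,0,0,0],
   [0,0,0,1,0,0,0,1,0,0,0,0,0,0],
   [0,0,0,0,0,0,0,0,1,0,0,0,0,0],
   [2,2,0,0,0,0,2,0,0,1,0,0,0,0],
   [0,0,0,0,0,0,0,0,1,0,1,0,0,0],
   [0,0,0,0,0,0,0,0,1,0,2,1,0,0],
   [0,0,0,0,0,0,0,0,2,0,0,0,1,0],
   [0,0,0,0,0,0,0,0,0,0,0,0,0,1]],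
  [[1,0,0,0,0,2,0,0,0,0,0,0,0,0],
   [0,1,0,0,0,0,0,0,0,0,0,0,0,0],
   [0,0,1,0,0,0,0,0,0,0,0,0,0,0],
   [0,0,0,1,0,0,0,0,0,0,0,0,0,0],
   [0,0,1,0,1,0,0,0,0,0,0,0,0,0],
   [0,0,0,0,0,1,0,0,0,0,0,0,0,0],
   [0,0,1,0,2,0,1,0,0,0,0,0,0,0],
   [0,0,0,0,0,0,0,1,0,0,0,0,0,0],
   [0,0,2,0,0,0,0,0,1,0,0,0,0,0],
   [0,0,0,0,0,0,0,1,0,1,0,0,0,0],
   [2,1,0,0,0,2,0,0,0,0,1,0,0,0],
   [0,0,0,0,0,0,0,2,0,1,0,1,0,0],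
   [0,0,0,0,0,0,0,0,0,0,0,0,1,0],
   [0,0,0,0,0,0,0,1,0,0,0,0,0,1]],
  [[1,0,0,0,1,0,0,0,0,0,0,0,0,0],
   [0,1,0,0,0,0,0,0,0,0,0,0,0,0],
   [0,0,1,0,0,0,0,0,0,0,0,0,0,0],
   [0,0,0,1,0,0,0,0,0,0,0,0,0,0],
   [0,0,0,0,1,0,0,0,0,0,0,0,0,0],
   [0,0,2,0,0,1,0,0,0,0,0,0,0,0],
   [0,0,0,2,0,0,1,0,0,0,0,0,0,0],
   [0,0,0,0,0,0,0,1,0,0,0,0,0,0],
   [0,0,0,0,0,0,0,0,1,0,0,0,0,0],
   [0,0,2,0,0,2,0,0,0,1,0,0,0,0],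
   [0,0,0,1,0,0,1,0,0,0,1,0,0,0],
   [1,0,0,0,2,0,0,0,0,0,0,1,0,0],
   [0,0,2,0,0,0,0,0,0,0,0,0,1,0],
   [0,0,0,1,0,0,0,0,0,0,0,0,0,1]],
  [[1,0,0,2,0,0,0,0,0,0,0,0,0,0],
   [0,1,0,2,0,0,0,0,0,0,0,0,0,0],
   [0,0,1,0,0,0,0,0,0,0,0,0,0,0],
   [0,0,0,1,0,0,0,0,0,0,0,0,0,0],
   [0,0,0,0,1,0,0,0,0,0,0,0,0,0],
   [0,0,0,0,0,1,0,0,0,0,0,0,0,0],
   [0,0,0,0,0,0,1,0,0,0,0,0,0,0],
   [0,0,2,0,0,0,0,1,0,0,0,0,0,0],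
   [0,0,0,0,0,0,0,0,1,0,0,0,0,0],
   [0,0,0,0,2,0,0,0,0,1,0,0,0,0],
   [0,0,0,0,0,0,0,0,0,0,1,0,0,0],
   [0,0,0,0,0,0,1,0,0,0,0,1,0,0],
   [0,2,0,2,0,0,0,0,0,0,0,0,1,0],
   [0,0,0,0,0,0,0,0,1,0,0,0,0,1]],
  [[1,0,2,0,0,0,0,0,0,0,0,0,0,0],
   [0,1,1,0,0,0,0,0,0,0,0,0,0,0],
   [0,0,1,0,0,0,0,0,0,0,0,0,0,0],
   [0,0,0,1,0,0,0,0,0,0,0,0,0,0],
   [0,0,0,0,1,0,0,0,0,0,0,0,0,0],
   [0,0,0,0,0,1,0,0,0,0,0,0,0,0],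
   [0,0,0,0,0,0,1,0,0,0,0,0,0,0],
   [0,0,0,0,0,0,0,1,0,0,0,0,0,0],
   [0,0,0,2,0,0,0,0,1,0,0,0,0,0],
   [0,0,0,0,0,0,0,0,0,1,0,0,0,0],
   [0,0,0,0,2,0,0,0,0,0,1,0,0,0],
   [0,0,0,0,0,1,0,0,0,0,0,1,0,0],
   [0,0,0,0,0,0,0,1,0,0,0,0,1,0],
   [0,1,2,0,0,0,0,0,0,0,0,0,0,1]]]

/-- The first generator, as a word in the root elements. -/
def aw : List ℕ := [1, 4, 8, 3, 10, 4, 4]

/-- The second generator, as a word in the root elements. -/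
def bw : List ℕ := [10, 0, 3]

/-- The matrix of the first generator. -/
def aLit : Lit :=
  [[2,2,2,1,2,0,1,1,2,0,2,0,2,2],
   [0,0,0,1,0,0,0,2,0,0,0,0,1,0],
   [0,0,2,0,0,0,0,2,1,0,0,0,1,2],
   [0,2,2,1,0,0,0,0,1,0,0,0,0,1],
   [0,1,1,0,2,2,1,0,0,0,2,1,0,2],
   [1,2,1,0,0,1,0,0,2,2,2,2,0,2],
   [0,0,0,2,2,0,0,0,2,0,2,0,0,0],
   [0,0,2,0,0,0,0,1,1,0,0,0,1,1],
   [0,1,1,1,0,0,0,0,1,0,0,0,0,2],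
   [2,2,2,0,2,1,1,0,2,0,0,1,0,2],
   [0,2,2,1,1,1,1,0,1,0,1,2,0,1],
   [1,2,1,1,2,1,2,0,2,2,0,2,0,2],
   [0,2,0,2,0,0,0,1,0,0,0,0,1,0],
   [0,0,2,0,0,0,0,1,2,0,0,0,2,2]]

/-- The transposed matrix of the first generator. -/
def aLitT : Lit :=
  [[2,0,0,0,0,1,0,0,0,2,0,1,0,0],
   [2,0,0,2,1,2,0,0,1,2,2,2,2,0],
   [2,0,2,2,1,1,0,2,1,2,2,1,0,2],
   [1,1,0,1,0,0,2,0,1,0,1,1,2,0],
   [2,0,0,0,2,0,2,0,0,2,1,2,0,0],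
   [0,0,0,0,2,1,0,0,0,1,1,1,0,0],
   [1,0,0,0,1,0,0,0,0,1,1,2,0,0],
   [1,2,2,0,0,0,0,1,0,0,0,0,1,1],
   [2,0,1,1,0,2,2,1,1,2,1,2,0,2],
   [0,0,0,0,0,2,0,0,0,0,0,2,0,0],
   [2,0,0,0,2,2,2,0,0,0,1,0,0,0],
   [0,0,0,0,1,2,0,0,0,1,2,2,0,0],
   [2,1,1,0,0,0,0,1,0,0,0,0,1,2],
   [2,0,2,1,2,2,0,1,2,2,1,2,0,2]]

/-- The matrix of the second generator. -/
def bLit : Lit :=
  [[1,0,0,2,0,0,0,0,1,0,1,0,0,1],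
   [0,1,0,2,0,0,0,0,1,0,0,0,0,2],
   [0,2,1,0,0,0,0,0,2,0,0,0,0,2],
   [0,0,0,1,0,0,0,0,2,0,0,0,0,0],
   [0,0,0,0,1,0,2,0,2,0,2,0,0,0],
   [1,2,0,0,0,1,0,0,0,0,2,1,0,2],
   [0,0,0,0,0,0,1,0,2,0,0,0,0,0],
   [0,1,2,0,0,0,0,1,1,0,0,0,1,2],
   [0,0,0,0,0,0,0,0,1,0,0,0,0,0],
   [0,0,0,0,2,0,1,0,1,1,1,1,0,1],
   [0,0,0,0,0,0,0,0,0,0,1,0,0,0],
   [0,0,0,0,0,0,1,0,2,0,0,1,0,2],
   [0,2,0,2,0,0,0,0,1,0,0,0,1,1],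
   [0,0,0,0,0,0,0,0,1,0,0,0,0,1]]

/-- The transposed matrix of the second generator. -/
def bLitT : Lit :=
  [[1,0,0,0,0,1,0,0,0,0,0,0,0,0],
   [0,1,2,0,0,2,0,1,0,0,0,0,2,0],
   [0,0,1,0,0,0,0,2,0,0,0,0,0,0],
   [2,2,0,1,0,0,0,0,0,0,0,0,2,0],
   [0,0,0,0,1,0,0,0,0,2,0,0,0,0],
   [0,0,0,0,0,1,0,0,0,0,0,0,0,0],
   [0,0,0,0,2,0,1,0,0,1,0,1,0,0],
   [0,0,0,0,0,0,0,1,0,0,0,0,0,0],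
   [1,1,2,2,2,0,2,1,1,1,0,2,1,1],
   [0,0,0,0,0,0,0,0,0,1,0,0,0,0],
   [1,0,0,0,2,2,0,0,0,1,1,0,0,0],
   [0,0,0,0,0,1,0,0,0,1,0,1,0,0],
   [0,0,0,0,0,0,0,1,0,0,0,0,1,0],
   [1,2,2,0,0,2,0,2,0,1,0,2,1,1]]

/-- The root elements as words in the two generators. -/
def rootWords : List (List ℕ) := [[0, 1, 0, 1, 0, 1, 0, 1, 1, 0, 1, 0, 1, 0, 1, 1, 0, 1, 1, 0, 1, 0, 1, 1, 0, 1, 0, 1, 0, 1, 0, 1, 0, 1, 0, 1, 0, 1, 1, 0, 1, 0, 1, 0, 1, 1, 0, 1, 0, 1, 0, 1, 1, 0, 1, 1, 0, 1, 1], [1, 1, 0, 1, 1, 0, 1, 0, 1, 0, 1, 1, 0, 1, 1, 0, 1, 0, 1, 0, 1, 1, 0, 1, 0, 1, 0, 1, 1, 0, 1, 1, 0, 1, 0, 1, 1, 0, 1, 1, 0, 1, 0, 1, 0, 1, 1, 0, 1, 0, 1, 0, 1, 1, 0, 1, 0, 1, 0, 1], [0, 1, 0, 1, 0, 1, 1, 0, 1, 1, 0, 1, 0, 1, 1, 0, 1, 1, 0, 1, 0, 1, 0, 1, 1, 0, 1, 0, 1, 0, 1, 1, 0, 1,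 1, 0, 1, 0, 1, 1, 0, 1, 0, 1, 0, 1, 1, 0, 1, 1, 0, 1, 0, 1, 1], [0, 1, 0, 1, 1, 0, 1, 0, 1, 0, 1, 0, 1, 1, 0, 1, 1, 0, 1, 0, 1, 0, 1, 1, 0, 1, 0, 1, 0, 1, 0, 1, 0, 1, 1, 0, 1, 0, 1, 0, 1, 0, 1, 0, 1, 1, 0, 1, 0, 1, 0, 1, 0, 1, 1], [1, 1, 0, 1, 1, 0, 1, 0, 1, 0, 1, 1, 0, 1, 1, 0, 1, 0, 1, 0, 1, 0, 1, 1, 0, 1, 1, 0, 1, 1, 0, 1, 0, 1, 0, 1, 0, 1, 0, 1, 1, 0, 1, 0, 1], [0, 1, 0, 1, 0, 1, 0, 1, 0, 1, 0, 1, 0, 1, 1, 0, 1, 0, 1, 0, 1, 1, 0, 1, 0, 1, 0, 1, 0, 1, 0, 1, 1, 0, 1, 0, 1, 0, 1, 1, 0, 1, 1, 0, 1, 1, 0, 1, 1, 0, 1, 0, 1, 0, 1, 0, 1, 1, 0, 1, 1], [0, 1, 0, 1, 0, 1, 0, 1, 0, 1, 1, 0, 1, 0, 1, 0, 1, 0, 1, 0, 1, 0, 1, 1, 0, 1, 0, 1, 0, 1, 0, 1, 0, 1, 1, 0, 1, 0, 1, 0, 1, 0, 1, 0, 1, 0, 1, 1], [1, 0, 1, 0, 1, 0, 1, 0, 1, 0, 1, 0, 1, 1, 0, 1, 1, 0, 1, 1,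 0, 1, 0, 1, 0, 1, 1, 0, 1, 1, 0, 1, 1, 0, 1, 0, 1, 0, 1, 0, 1, 0, 1, 0], [1, 1, 0, 1, 0, 1, 0, 1, 0, 1, 1, 0, 1, 1, 0, 1, 1, 0, 1, 0, 1, 0, 1, 0, 1, 1, 0, 1, 1, 0], [0, 1, 0, 1, 0, 1, 0, 1, 1, 0, 1, 0, 1, 0, 1, 0, 1, 0, 1, 1, 0, 1, 1, 0, 1, 1, 0, 1, 0, 1, 0, 1, 0, 1, 1, 0, 1, 1, 0, 1, 0, 1, 0, 1, 1, 0, 1, 1, 0, 1, 1, 0], [0, 1, 0, 1, 0, 1, 0, 1, 1, 0, 1, 0, 1, 0, 1, 0, 1, 1, 0, 1, 0, 1, 0, 1, 0, 1, 1, 0, 1, 0, 1, 0, 1, 0, 1, 1, 0, 1, 0, 1, 0, 1, 0, 1, 1, 0, 1, 0, 1, 0, 1, 0, 1, 0, 1], [1, 0, 1, 1, 0, 1, 1, 0, 1, 0, 1, 0, 1, 1, 0, 1, 0, 1, 0, 1, 1, 0, 1, 1, 0, 1, 0, 1, 1, 0, 1, 1, 0, 1, 0, 1, 0, 1, 1, 0, 1, 0, 1, 0, 1, 1, 0, 1, 1, 0]]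

/-- The transposed matrix of a word over given matrices. -/
def mT (L : List Lit) : List ℕ → Lit
  | [] => lone
  | g :: w => lmul (mT L w) (L.getD g lone)

theorem toMat_lmul {A Bt : Lit} (hA : okShape A = true) (hB : okShape Bt = true) :
    toMat (lmul A Bt) = toMat A * (toMat Bt)ᵀ := by
  simp only [okShape, Bool.and_eq_true, beq_iff_eq, List.all_eq_true] at hA hB
  ext i j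
  have hi : (eIdx i).val < A.length := (eIdx i).isLt.trans_eq hA.1.symm
  have hj : (eIdx j).val < Bt.length := (eIdx j).isLt.trans_eq hB.1.symm
  rw [Matrix.mul_apply, show toMat (lmul A Bt) i j =
    ((ldot (A.getD (eIdx i).val []) (Bt.getD (eIdx j).val []) % 3 : ℕ) : ZMod 3) by
      simp [toMat, lget, lmul, List.getD_eq_getElem?_getD, hi, hj],
    ZMod.natCast_mod,
    ldot_eq _ _ 14 (by rw [List.getD_eq_getElem _ _ hi]; exact (hA.2 _ (List.getElem_mem hi)).le),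
    Nat.cast_sum, ← eIdx.sum_comp]
  exact Finset.sum_congr rfl fun k _ => by simp [toMat, lget, Matrix.transpose_apply]

theorem okShape_lmul {A Bt : Lit} (hA : okShape A = true) (hB : okShape Bt = true) :
    okShape (lmul A Bt) = true := by
  simp only [okShape, Bool.and_eq_true, beq_iff_eq, List.all_eq_true] at hA hB ⊢
  refine ⟨by simp [lmul, hA.1], fun r hr => ?_⟩
  obtain ⟨x, -, rfl⟩ := List.mem_map.mp hr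
  simp [hB.1]

theorem mT_spec (L : List Lit) (g : ℕ → ↥(chevG2.group (ZMod 3)))
    (hL : ∀ i < L.length, okShape (L.getD i lone) = true ∧
      ((g i : GL chevG2.Idx (ZMod 3)) : Matrix _ _ (ZMod 3)) = toMat (L.getD i lone)) :
    ∀ w : List ℕ, (∀ c ∈ w, c < L.length) → okShape (mT L w) = true ∧
      toMat (mT L w) = (((w.map g).prod : ↥(chevG2.group (ZMod 3))) :
        GL chevG2.Idx (ZMod 3)).valᵀ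
  | [], _ => ⟨show okShape lone = true by decide +kernel, by simp [mT, toMat_lone]⟩
  | c :: w, h => by
    obtain ⟨h1, h2⟩ := mT_spec L g hL w fun x hx => h x (List.mem_cons_of_mem _ hx)
    obtain ⟨h3, h4⟩ := hL c (h c List.mem_cons_self)
    refine ⟨okShape_lmul h1 h3, ?_⟩
    rw [mT, toMat_lmul h1 h3, h2, List.map_cons, List.prod_cons]
    simp [h4, Matrix.transpose_mul]

theorem root_ok : ∀ r < rootLit.length, okShape (rootLit.getD r lone) = true ∧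
    ((el r : GL chevG2.Idx (ZMod 3)) : Matrix _ _ (ZMod 3)) = toMat (rootLit.getD r lone) := by
  have h : ∀ r < 12, okShape (rootLit.getD r lone) = true ∧
      chevG2.x (ZMod 3) r 2 = toMat (rootLit.getD r lone) := by decide +kernel
  exact fun r hr => h r hr

/-- The first generator. -/
noncomputable def ga : ↥(chevG2.group (ZMod 3)) := (aw.map el).prod

/-- The second generator. -/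
noncomputable def gb : ↥(chevG2.group (ZMod 3)) := (bw.map el).prod

theorem gen_lits :
    (((okShape aLit && okShape bLit) && (mT rootLit aw == aLitT)) && (mT rootLit bw == bLitT)) = true ∧
      toMat aLit = (toMat aLitT)ᵀ ∧ toMat bLit = (toMat bLitT)ᵀ := by decide +kernel

theorem gen_ok : ∀ c < [aLit, bLit].length, okShape ([aLit, bLit].getD c lone) = true ∧
    (((letter ga gb c : ↥(chevG2.group (ZMod 3))) : GL chevG2.Idx (ZMod 3)) :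
      Matrix _ _ (ZMod 3)) =
      toMat ([aLit, bLit].getD c lone) := by
  obtain ⟨h, ha, hb⟩ := gen_lits
  simp only [Bool.and_eq_true, beq_iff_eq] at h
  obtain ⟨⟨⟨sa, sb⟩, ma⟩, mb⟩ := h
  intro c hc
  have e : ∀ (w : List ℕ), (∀ r ∈ w, r < 12) →
      (((w.map el).prod : ↥(chevG2.group (ZMod 3))) : GL chevG2.Idx (ZMod 3)).val =
        (toMat (mT rootLit w))ᵀ := fun w hw => by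
    rw [(mT_spec rootLit el root_ok w hw).2, Matrix.transpose_transpose]
  match c, hc with
  | 0, _ => exact ⟨sa, by simp only [letter, if_pos, List.getD_cons_zero]; rw [ga, e aw (by decide), ma, ha]⟩
  | 1, _ => exact ⟨sb, by simp [letter]; rw [gb, e bw (by decide), mb, hb]⟩

theorem ev_spec (w : List ℕ) (hw : ∀ c ∈ w, c < 2) :
    toMat (mT [aLit, bLit] w) = ((ev ga gb w : ↥(chevG2.group (ZMod 3))) :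
      GL chevG2.Idx (ZMod 3)).valᵀ := by
  rw [ev]
  exact (mT_spec [aLit, bLit] (letter ga gb) gen_ok w hw).2

/-- The matrix of the first generator of the subgroup. -/
def cLit : Lit :=
  [[2,1,0,0,1,1,0,1,1,0,1,2,1,1],
   [0,1,0,1,0,0,0,1,0,0,0,0,0,2],
   [0,1,2,2,0,0,0,2,1,0,0,0,2,1],
   [0,0,2,2,0,0,0,1,2,0,0,0,0,2],
   [1,1,1,1,0,1,1,1,1,2,0,1,2,1],
   [2,2,1,1,1,0,2,1,1,1,2,0,2,1],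
   [0,0,0,0,1,1,0,1,0,1,1,2,2,0],
   [0,0,1,0,0,0,0,1,2,0,0,0,2,1],
   [0,2,0,1,0,0,0,1,1,0,0,0,1,2],
   [0,0,0,1,2,2,1,0,1,0,2,1,0,0],
   [2,0,0,2,0,0,2,2,2,1,0,1,1,1],
   [2,1,0,1,0,0,2,1,1,1,1,0,2,2],
   [0,2,0,1,0,0,0,1,0,0,0,0,2,2],
   [0,0,0,0,0,0,0,0,1,0,0,0,2,2]]

/-- The transposed matrix of the first generator of the subgroup. -/
def cLitT : Lit :=
  [[2,0,0,0,1,2,0,0,0,0,2,2,0,0],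
   [1,1,1,0,1,2,0,0,2,0,0,1,2,0],
   [0,0,2,2,1,1,0,1,0,0,0,0,0,0],
   [0,1,2,2,1,1,0,0,1,1,2,1,1,0],
   [1,0,0,0,0,1,1,0,0,2,0,0,0,0],
   [1,0,0,0,1,0,1,0,0,2,0,0,0,0],
   [0,0,0,0,1,2,0,0,0,1,2,2,0,0],
   [1,1,2,1,1,1,1,1,1,0,2,1,1,0],
   [1,0,1,2,1,1,0,2,1,1,2,1,0,1],
   [0,0,0,0,2,1,1,0,0,0,1,1,0,0],
   [1,0,0,0,0,2,1,0,0,2,0,1,0,0],
   [2,0,0,0,1,0,2,0,0,1,1,0,0,0],
   [1,0,2,0,2,2,2,2,1,0,1,2,2,2],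
   [1,2,1,2,1,1,0,1,2,0,1,2,2,2]]

/-- The matrix of the second generator of the subgroup. -/
def dLit : Lit :=
  [[2,2,1,1,0,1,1,1,2,2,1,1,0,1],
   [0,0,2,0,0,0,0,2,0,0,0,0,1,2],
   [0,2,0,1,0,0,0,1,2,0,0,0,0,2],
   [0,2,1,0,0,0,0,1,0,0,0,0,0,2],
   [1,1,1,1,2,2,0,1,2,0,1,0,0,2],
   [0,1,2,2,2,2,2,0,1,1,0,2,0,1],
   [2,1,1,1,1,0,0,1,2,1,2,2,0,0],
   [0,0,1,2,0,0,0,0,2,0,0,0,2,2],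
   [0,1,0,2,0,0,0,0,1,0,0,0,1,1],
   [1,0,1,1,2,0,1,0,0,0,1,1,2,0],
   [1,1,1,1,2,0,1,1,2,2,2,0,1,1],
   [1,2,0,0,0,1,1,0,2,2,0,2,1,1],
   [0,0,2,2,0,0,0,0,1,0,0,0,1,2],
   [0,2,2,2,0,0,0,2,2,0,0,0,1,1]]

/-- The transposed matrix of the second generator of the subgroup. -/
def dLitT : Lit :=
  [[2,0,0,0,1,0,2,0,0,1,1,1,0,0],
   [2,0,2,2,1,1,1,0,1,0,1,2,0,2],
   [1,2,0,1,1,2,1,1,0,1,1,0,2,2],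
   [1,0,1,0,1,2,1,2,2,1,1,0,2,2],
   [0,0,0,0,2,2,1,0,0,2,2,0,0,0],
   [1,0,0,0,2,2,0,0,0,0,0,1,0,0],
   [1,0,0,0,0,2,0,0,0,1,1,1,0,0],
   [1,2,1,1,1,0,1,0,0,0,1,0,0,2],
   [2,0,2,0,2,1,2,2,1,0,2,2,1,2],
   [2,0,0,0,0,1,1,0,0,0,2,2,0,0],
   [1,0,0,0,1,0,2,0,0,1,2,0,0,0],
   [1,0,0,0,0,2,2,0,0,1,0,2,0,0],
   [0,1,0,0,0,0,0,2,1,2,1,1,1,1],
   [1,2,2,2,2,1,0,2,1,0,1,1,2,1]]

theorem sub_lits :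
    (((okShape cLit && okShape dLit) && (mT [aLit, bLit] top.cw == cLitT)) &&
      (mT [aLit, bLit] top.dw == dLitT) &&
      ((top.cw ++ top.dw).all fun c => Nat.blt c 2)) = true ∧
      toMat cLit = (toMat cLitT)ᵀ ∧ toMat dLit = (toMat dLitT)ᵀ := by decide +kernel

theorem sub_ok : ∀ c < [cLit, dLit].length, okShape ([cLit, dLit].getD c lone) = true ∧
    (((letter (top.genC ga gb) (top.genD ga gb) c : ↥(chevG2.group (ZMod 3))) :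
      GL chevG2.Idx (ZMod 3)) : Matrix _ _ (ZMod 3)) = toMat ([cLit, dLit].getD c lone) := by
  obtain ⟨h, ha, hb⟩ := sub_lits
  simp only [Bool.and_eq_true, beq_iff_eq, List.all_eq_true, Nat.blt_eq, List.mem_append] at h
  obtain ⟨⟨⟨⟨sc, sd⟩, mc⟩, md⟩, hl⟩ := h
  have e : ∀ (w : List ℕ), (∀ r ∈ w, r < 2) →
      ((ev ga gb w : ↥(chevG2.group (ZMod 3))) : GL chevG2.Idx (ZMod 3)).val =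
        (toMat (mT [aLit, bLit] w))ᵀ := fun w hw => by
    rw [ev_spec w hw, Matrix.transpose_transpose]
  intro c hc
  match c, hc with
  | 0, _ => exact ⟨sc, by simp [letter, Two.genC]; rw [e _ fun r hr => hl r (Or.inl hr), mc, ha]⟩
  | 1, _ => exact ⟨sd, by simp [letter, Two.genD]; rw [e _ fun r hr => hl r (Or.inr hr), md, hb]⟩

theorem sub_spec (w : List ℕ) (hw : ∀ c ∈ w, c < 2) :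
    toMat (mT [cLit, dLit] w) =
      ((ev (top.genC ga gb) (top.genD ga gb) w : ↥(chevG2.group (ZMod 3))) :
        GL chevG2.Idx (ZMod 3)).valᵀ := by
  rw [ev]
  exact (mT_spec [cLit, dLit] _ sub_ok w hw).2

theorem eq_one_of_lone {g : ↥(chevG2.group (ZMod 3))} {M : Lit}
    (h : toMat M = (g : GL chevG2.Idx (ZMod 3)).valᵀ) (hM : M = lone) : g = 1 := by
  rw [hM, toMat_lone, eq_comm, Matrix.transpose_eq_one] at h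
  exact Subtype.ext (Units.ext h)

theorem eq_el_of_lit {g : ↥(chevG2.group (ZMod 3))} {M : Lit} {r : ℕ} (hr : r < 12)
    (h : toMat M = (g : GL chevG2.Idx (ZMod 3)).valᵀ) (hM : M = mT rootLit [r]) : g = el r := by
  rw [hM, (mT_spec rootLit el root_ok [r] (by simpa [rootLit] using hr)).2,
    Matrix.transpose_inj] at h
  exact Subtype.ext (Units.ext (by simpa using h.symm))

theorem mT_eq_foldr (L : List Lit) : ∀ w : List ℕ,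
    mT L w = w.foldr (fun g M => lmul M (L.getD g lone)) lone
  | [] => rfl
  | c :: w => by rw [mT, mT_eq_foldr L w, List.foldr_cons]

end Cfsg.Agent.H12.CExt.G23
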