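import Cfsg.Agent.H12.CentralExt.G23Base

/-!
The two generators generate the Chevalley group G2(3).
-/

set_option autoImplicit false
set_option maxRecDepth 100000

namespace Cfsg.Agent.H12.CExt.G23

open Cfsg Cfsg.Lie Cfsg.Agent.H46 Cfsg.Agent.H69.G2Three

theorem word0_0 : ([1, 0, 1, 1, 0, 1, 0, 1, 0, 1, 1, 0, 1, 0, 1, 0, 1, 1, 0, 1, 1, 0, 1, 1] : List ℕ).foldr (fun g M => lmul M ([aLit, bLit].getD g lone)) (lone) =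
    [[1,0,0,0,1,1,1,0,0,1,1,1,0,0],
   [2,0,0,2,2,1,0,2,1,1,0,2,1,0],
   [0,0,2,2,1,1,0,1,0,0,0,0,0,0],
   [1,2,0,2,2,1,1,2,2,1,1,2,2,0],
   [2,0,0,0,1,1,2,0,0,1,0,0,0,0],
   [1,0,0,0,1,0,1,0,0,2,0,0,0,0],
   [1,0,0,0,0,0,2,0,0,1,2,2,0,0],
   [1,1,1,0,2,2,1,2,1,0,2,1,1,0],
   [0,0,0,0,0,0,0,0,1,0,1,1,2,2],
   [2,0,0,0,0,2,0,0,0,1,1,1,0,0],
   [2,0,0,0,0,0,1,0,0,2,0,2,0,0],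
   [1,0,0,0,2,2,2,0,0,0,1,0,0,0],
   [2,2,2,0,1,1,2,2,2,2,1,1,0,2],
   [1,1,0,1,1,2,0,1,2,1,2,2,0,1]] := by decide +kernel

theorem word0_1 : ([0, 1, 0, 1, 1, 0, 1, 1, 0, 1, 0, 1, 1, 0, 1, 0, 1, 0, 1, 0, 1, 0, 1, 0] : List ℕ).foldr (fun g M => lmul M ([aLit, bLit].getD g lone)) ([[1,0,0,0,1,1,1,0,0,1,1,1,0,0],
   [2,0,0,2,2,1,0,2,1,1,0,2,1,0],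
   [0,0,2,2,1,1,0,1,0,0,0,0,0,0],
   [1,2,0,2,2,1,1,2,2,1,1,2,2,0],
   [2,0,0,0,1,1,2,0,0,1,0,0,0,0],
   [1,0,0,0,1,0,1,0,0,2,0,0,0,0],
   [1,0,0,0,0,0,2,0,0,1,2,2,0,0],
   [1,1,1,0,2,2,1,2,1,0,2,1,1,0],
   [0,0,0,0,0,0,0,0,1,0,1,1,2,2],
   [2,0,0,0,0,2,0,0,0,1,1,1,0,0],
   [2,0,0,0,0,0,1,0,0,2,0,2,0,0],
   [1,0,0,0,2,2,2,0,0,0,1,0,0,0],
   [2,2,2,0,1,1,2,2,2,2,1,1,0,2],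
   [1,1,0,1,1,2,0,1,2,1,2,2,0,1]]) =
    [[1,0,0,0,1,1,0,0,0,0,2,1,0,0],
   [2,2,2,1,0,2,2,0,1,2,1,0,0,0],
   [1,0,1,1,2,2,0,1,2,1,1,2,0,1],
   [2,2,0,1,2,2,0,2,2,1,1,2,1,2],
   [0,0,0,0,1,2,0,0,0,2,2,2,0,0],
   [1,0,0,0,1,0,1,0,0,1,2,1,0,0],
   [1,0,0,0,1,2,1,0,0,1,2,0,0,0],
   [2,1,1,2,2,2,2,1,0,1,2,0,2,1],
   [0,1,1,0,2,1,1,2,1,0,0,0,0,0],
   [2,0,0,0,0,2,1,0,0,1,2,2,0,0],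
   [1,0,0,0,2,0,2,0,0,1,2,0,0,0],
   [2,0,0,0,0,2,1,0,0,2,0,1,0,0],
   [0,1,0,0,0,0,0,1,2,2,2,2,0,2],
   [1,2,1,2,2,1,0,2,2,0,2,2,1,2]] := by decide +kernel

theorem word0_2 : ([0, 1, 0, 1, 0, 1, 0, 1, 1, 0, 1] : List ℕ).foldr (fun g M => lmul M ([aLit, bLit].getD g lone)) ([[1,0,0,0,1,1,0,0,0,0,2,1,0,0],
   [2,2,2,1,0,2,2,0,1,2,1,0,0,0],
   [1,0,1,1,2,2,0,1,2,1,1,2,0,1],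
   [2,2,0,1,2,2,0,2,2,1,1,2,1,2],
   [0,0,0,0,1,2,0,0,0,2,2,2,0,0],
   [1,0,0,0,1,0,1,0,0,1,2,1,0,0],
   [1,0,0,0,1,2,1,0,0,1,2,0,0,0],
   [2,1,1,2,2,2,2,1,0,1,2,0,2,1],
   [0,1,1,0,2,1,1,2,1,0,0,0,0,0],
   [2,0,0,0,0,2,1,0,0,1,2,2,0,0],
   [1,0,0,0,2,0,2,0,0,1,2,0,0,0],
   [2,0,0,0,0,2,1,0,0,2,0,1,0,0],
   [0,1,0,0,0,0,0,1,2,2,2,2,0,2],
   [1,2,1,2,2,1,0,2,2,0,2,2,1,2]]) =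
    [[1,0,0,0,0,0,0,0,0,0,0,0,0,0],
   [0,1,2,0,0,0,0,0,0,0,0,0,0,0],
   [0,0,1,0,0,0,0,0,0,0,0,0,0,0],
   [0,0,0,1,0,0,0,0,0,0,0,0,0,0],
   [0,0,0,0,1,0,0,0,0,0,0,0,0,0],
   [0,0,0,0,0,1,0,0,0,0,0,0,0,0],
   [0,0,0,0,0,0,1,0,0,0,0,0,0,0],
   [0,0,0,0,0,0,0,1,0,0,0,0,0,0],
   [0,0,0,2,0,0,0,0,1,0,0,0,0,0],
   [0,0,0,0,0,0,0,0,0,1,0,0,0,0],
   [0,0,0,0,2,0,0,0,0,0,1,0,0,0],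
   [0,0,0,0,0,1,0,0,0,0,0,1,0,0],
   [0,0,0,0,0,0,0,1,0,0,0,0,1,0],
   [1,2,2,0,0,0,0,0,0,0,0,0,0,1]] := by decide +kernel

theorem word0 : mT [aLit, bLit] [0, 1, 0, 1, 0, 1, 0, 1, 1, 0, 1, 0, 1, 0, 1, 1, 0, 1, 1, 0, 1, 0, 1, 1, 0, 1, 0, 1, 0, 1, 0, 1, 0, 1, 0, 1, 0, 1, 1, 0, 1, 0, 1, 0, 1, 1, 0, 1, 0, 1, 0, 1, 1, 0, 1, 1, 0, 1, 1] = [[1,0,0,0,0,0,0,0,0,0,0,0,0,0],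
   [0,1,2,0,0,0,0,0,0,0,0,0,0,0],
   [0,0,1,0,0,0,0,0,0,0,0,0,0,0],
   [0,0,0,1,0,0,0,0,0,0,0,0,0,0],
   [0,0,0,0,1,0,0,0,0,0,0,0,0,0],
   [0,0,0,0,0,1,0,0,0,0,0,0,0,0],
   [0,0,0,0,0,0,1,0,0,0,0,0,0,0],
   [0,0,0,0,0,0,0,1,0,0,0,0,0,0],
   [0,0,0,2,0,0,0,0,1,0,0,0,0,0],
   [0,0,0,0,0,0,0,0,0,1,0,0,0,0],
   [0,0,0,0,2,0,0,0,0,0,1,0,0,0],
   [0,0,0,0,0,1,0,0,0,0,0,1,0,0],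
   [0,0,0,0,0,0,0,1,0,0,0,0,1,0],
   [1,2,2,0,0,0,0,0,0,0,0,0,0,1]] := by
  rw [show ([0, 1, 0, 1, 0, 1, 0, 1, 1, 0, 1, 0, 1, 0, 1, 1, 0, 1, 1, 0, 1, 0, 1, 1, 0, 1, 0, 1, 0, 1, 0, 1, 0, 1, 0, 1, 0, 1, 1, 0, 1, 0, 1, 0, 1, 1, 0, 1, 0, 1, 0, 1, 1, 0, 1, 1, 0, 1, 1] : List ℕ) = ([0, 1, 0, 1, 0, 1, 0, 1, 1, 0, 1] : List ℕ) ++ (([0, 1, 0, 1, 1, 0, 1, 1, 0, 1, 0, 1, 1, 0, 1, 0, 1, 0, 1, 0, 1, 0, 1, 0] : List ℕ) ++ (([1, 0, 1, 1, 0, 1, 0, 1, 0, 1, 1, 0, 1, 0, 1, 0, 1, 1, 0, 1, 1, 0, 1, 1] : List ℕ))) from rfl, mT_eq_foldr, List.foldr_append, List.foldr_append,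
    word0_0, word0_1, word0_2]

theorem word1_0 : ([1, 0, 1, 1, 0, 1, 0, 1, 0, 1, 1, 0, 1, 0, 1, 0, 1, 1, 0, 1, 0, 1, 0, 1] : List ℕ).foldr (fun g M => lmul M ([aLit, bLit].getD g lone)) (lone) =
    [[0,0,0,0,2,1,2,0,0,1,2,0,0,0],
   [2,1,1,2,1,0,0,0,2,1,2,2,2,2],
   [1,2,2,0,1,0,2,2,2,1,2,1,2,2],
   [1,2,2,0,1,0,2,1,2,2,2,2,1,0],
   [1,0,0,0,0,1,0,0,0,0,2,1,0,0],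
   [2,0,0,0,1,2,1,0,0,1,0,1,0,0],
   [0,0,0,0,1,0,1,0,0,2,2,1,0,0],
   [1,1,2,2,2,1,0,0,0,1,0,0,1,0],
   [0,1,2,1,1,0,2,1,1,2,2,2,0,2],
   [2,0,0,0,0,1,1,0,0,2,0,1,0,0],
   [1,0,0,0,2,1,1,0,0,1,0,2,0,0],
   [2,0,0,0,2,0,1,0,0,2,1,0,0,0],
   [2,1,1,1,1,2,0,1,2,0,2,2,1,2],
   [1,0,1,0,1,2,1,1,2,0,1,1,2,1]] := by decide +kernel

theorem word1_1 : ([0, 1, 1, 0, 1, 0, 1, 0, 1, 1, 0, 1, 0, 1, 0, 1, 1, 0, 1, 1, 0, 1, 0, 1] : List ℕ).foldr (fun g M => lmul M ([aLit, bLit].getD g lone)) ([[0,0,0,0,2,1,2,0,0,1,2,0,0,0],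
   [2,1,1,2,1,0,0,0,2,1,2,2,2,2],
   [1,2,2,0,1,0,2,2,2,1,2,1,2,2],
   [1,2,2,0,1,0,2,1,2,2,2,2,1,0],
   [1,0,0,0,0,1,0,0,0,0,2,1,0,0],
   [2,0,0,0,1,2,1,0,0,1,0,1,0,0],
   [0,0,0,0,1,0,1,0,0,2,2,1,0,0],
   [1,1,2,2,2,1,0,0,0,1,0,0,1,0],
   [0,1,2,1,1,0,2,1,1,2,2,2,0,2],
   [2,0,0,0,0,1,1,0,0,2,0,1,0,0],
   [1,0,0,0,2,1,1,0,0,1,0,2,0,0],
   [2,0,0,0,2,0,1,0,0,2,1,0,0,0],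
   [2,1,1,1,1,2,0,1,2,0,2,2,1,2],
   [1,0,1,0,1,2,1,1,2,0,1,1,2,1]]) =
    [[2,0,0,0,1,1,2,0,0,0,0,0,0,0],
   [0,0,0,0,0,2,1,2,2,1,1,0,1,1],
   [0,1,1,2,0,2,1,1,2,2,2,0,2,2],
   [1,0,2,2,0,1,1,2,2,1,2,1,0,1],
   [1,0,0,0,1,0,0,0,0,1,1,2,0,0],
   [0,0,0,0,0,1,2,0,0,2,2,0,0,0],
   [2,0,0,0,2,2,2,0,0,0,1,0,0,0],
   [0,1,0,0,0,0,0,1,2,0,0,0,0,0],
   [2,0,2,1,2,2,0,1,2,2,1,2,0,2],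
   [0,0,0,0,0,1,2,0,0,0,0,0,0,0],
   [2,0,0,0,1,0,2,0,0,2,2,1,0,0],
   [0,0,0,0,2,1,2,0,0,2,2,0,0,0],
   [0,1,1,2,0,0,0,1,2,0,0,0,0,0],
   [2,1,1,1,1,1,2,2,0,1,1,0,1,1]] := by decide +kernel

theorem word1_2 : ([1, 1, 0, 1, 1, 0, 1, 0, 1, 0, 1, 1] : List ℕ).foldr (fun g M => lmul M ([aLit, bLit].getD g lone)) ([[2,0,0,0,1,1,2,0,0,0,0,0,0,0],
   [0,0,0,0,0,2,1,2,2,1,1,0,1,1],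
   [0,1,1,2,0,2,1,1,2,2,2,0,2,2],
   [1,0,2,2,0,1,1,2,2,1,2,1,0,1],
   [1,0,0,0,1,0,0,0,0,1,1,2,0,0],
   [0,0,0,0,0,1,2,0,0,2,2,0,0,0],
   [2,0,0,0,2,2,2,0,0,0,1,0,0,0],
   [0,1,0,0,0,0,0,1,2,0,0,0,0,0],
   [2,0,2,1,2,2,0,1,2,2,1,2,0,2],
   [0,0,0,0,0,1,2,0,0,0,0,0,0,0],
   [2,0,0,0,1,0,2,0,0,2,2,1,0,0],
   [0,0,0,0,2,1,2,0,0,2,2,0,0,0],
   [0,1,1,2,0,0,0,1,2,0,0,0,0,0],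
   [2,1,1,1,1,1,2,2,0,1,1,0,1,1]]) =
    [[1,0,0,0,0,0,0,0,0,0,0,0,0,0],
   [0,1,0,1,0,0,0,0,0,0,0,0,0,0],
   [0,0,1,0,0,0,0,0,0,0,0,0,0,0],
   [0,0,0,1,0,0,0,0,0,0,0,0,0,0],
   [0,0,0,0,1,0,0,0,0,0,0,0,0,0],
   [0,0,0,0,0,1,0,0,0,0,0,0,0,0],
   [0,0,0,0,0,0,1,0,0,0,0,0,0,0],
   [0,0,2,0,0,0,0,1,0,0,0,0,0,0],
   [0,0,0,0,0,0,0,0,1,0,0,0,0,0],
   [0,0,0,0,2,0,0,0,0,1,0,0,0,0],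
   [0,0,0,0,0,0,0,0,0,0,1,0,0,0],
   [0,0,0,0,0,0,1,0,0,0,0,1,0,0],
   [1,1,0,2,0,0,0,0,0,0,0,0,1,0],
   [0,0,0,0,0,0,0,0,1,0,0,0,0,1]] := by decide +kernel

theorem word1 : mT [aLit, bLit] [1, 1, 0, 1, 1, 0, 1, 0, 1, 0, 1, 1, 0, 1, 1, 0, 1, 0, 1, 0, 1, 1, 0, 1, 0, 1, 0, 1, 1, 0, 1, 1, 0, 1, 0, 1, 1, 0, 1, 1, 0, 1, 0, 1, 0, 1, 1, 0, 1, 0, 1, 0, 1, 1, 0, 1, 0, 1, 0, 1] = [[1,0,0,0,0,0,0,0,0,0,0,0,0,0],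
   [0,1,0,1,0,0,0,0,0,0,0,0,0,0],
   [0,0,1,0,0,0,0,0,0,0,0,0,0,0],
   [0,0,0,1,0,0,0,0,0,0,0,0,0,0],
   [0,0,0,0,1,0,0,0,0,0,0,0,0,0],
   [0,0,0,0,0,1,0,0,0,0,0,0,0,0],
   [0,0,0,0,0,0,1,0,0,0,0,0,0,0],
   [0,0,2,0,0,0,0,1,0,0,0,0,0,0],
   [0,0,0,0,0,0,0,0,1,0,0,0,0,0],
   [0,0,0,0,2,0,0,0,0,1,0,0,0,0],
   [0,0,0,0,0,0,0,0,0,0,1,0,0,0],
   [0,0,0,0,0,0,1,0,0,0,0,1,0,0],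
   [1,1,0,2,0,0,0,0,0,0,0,0,1,0],
   [0,0,0,0,0,0,0,0,1,0,0,0,0,1]] := by
  rw [show ([1, 1, 0, 1, 1, 0, 1, 0, 1, 0, 1, 1, 0, 1, 1, 0, 1, 0, 1, 0, 1, 1, 0, 1, 0, 1, 0, 1, 1, 0, 1, 1, 0, 1, 0, 1, 1, 0, 1, 1, 0, 1, 0, 1, 0, 1, 1, 0, 1, 0, 1, 0, 1, 1, 0, 1, 0, 1, 0, 1] : List ℕ) = ([1, 1, 0, 1, 1, 0, 1, 0, 1, 0, 1, 1] : List ℕ) ++ (([0, 1, 1, 0, 1, 0, 1, 0, 1, 1, 0, 1, 0, 1, 0, 1, 1, 0, 1, 1, 0, 1, 0, 1] : List ℕ) ++ (([1, 0, 1, 1, 0, 1, 0, 1, 0, 1, 1, 0, 1, 0, 1, 0, 1, 1, 0, 1, 0, 1, 0, 1] : List ℕ))) from rfl, mT_eq_foldr, List.foldr_append, List.foldr_append,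
    word1_0, word1_1, word1_2]

theorem word2_0 : ([1, 0, 1, 1, 0, 1, 0, 1, 1, 0, 1, 0, 1, 0, 1, 1, 0, 1, 1, 0, 1, 0, 1, 1] : List ℕ).foldr (fun g M => lmul M ([aLit, bLit].getD g lone)) (lone) =
    [[1,0,0,0,0,0,0,0,0,2,2,1,0,0],
   [1,2,0,0,0,0,0,0,1,0,2,0,1,1],
   [0,2,0,0,0,0,0,1,2,2,1,2,1,1],
   [0,0,0,0,0,0,0,0,0,0,0,0,1,2],
   [0,0,0,0,0,0,0,0,0,2,1,1,0,0],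
   [2,0,0,0,0,2,2,0,0,0,1,2,0,0],
   [0,0,0,0,0,0,0,0,0,0,0,2,0,0],
   [2,2,1,1,2,0,1,2,1,1,0,1,2,1],
   [0,0,0,0,0,0,0,0,0,0,0,0,0,1],
   [2,0,0,0,2,2,1,0,0,1,1,1,0,0],
   [0,0,0,0,0,0,0,0,0,0,2,1,0,0],
   [1,0,0,0,0,0,2,0,0,1,0,1,0,0],
   [1,1,0,1,1,2,0,1,2,1,2,2,0,1],
   [0,0,0,0,0,0,0,0,1,0,1,1,2,2]] := by decide +kernel

theorem word2_1 : ([0, 1, 1, 0, 1, 0, 1, 1, 0, 1, 1, 0, 1, 0, 1, 0, 1, 1, 0, 1, 0, 1, 0, 1] : List ℕ).foldr (fun g M => lmul M ([aLit, bLit].getD g lone)) ([[1,0,0,0,0,0,0,0,0,2,2,1,0,0],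
   [1,2,0,0,0,0,0,0,1,0,2,0,1,1],
   [0,2,0,0,0,0,0,1,2,2,1,2,1,1],
   [0,0,0,0,0,0,0,0,0,0,0,0,1,2],
   [0,0,0,0,0,0,0,0,0,2,1,1,0,0],
   [2,0,0,0,0,2,2,0,0,0,1,2,0,0],
   [0,0,0,0,0,0,0,0,0,0,0,2,0,0],
   [2,2,1,1,2,0,1,2,1,1,0,1,2,1],
   [0,0,0,0,0,0,0,0,0,0,0,0,0,1],
   [2,0,0,0,2,2,1,0,0,1,1,1,0,0],
   [0,0,0,0,0,0,0,0,0,0,2,1,0,0],
   [1,0,0,0,0,0,2,0,0,1,0,1,0,0],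
   [1,1,0,1,1,2,0,1,2,1,2,2,0,1],
   [0,0,0,0,0,0,0,0,1,0,1,1,2,2]]) =
    [[1,0,0,0,0,2,0,0,0,0,0,0,0,0],
   [2,1,2,2,1,2,2,0,2,2,0,2,1,2],
   [1,0,1,2,1,2,2,0,2,2,0,2,2,2],
   [1,2,1,0,0,1,0,2,0,2,0,2,2,2],
   [2,0,0,0,1,2,0,0,0,1,1,0,0,0],
   [0,0,0,0,2,2,2,0,0,1,0,2,0,0],
   [0,0,0,0,0,1,0,0,0,1,0,2,0,0],
   [2,2,1,1,0,0,0,2,0,0,0,0,2,0],
   [1,2,1,0,0,1,0,1,0,2,0,2,0,2],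
   [0,0,0,0,2,0,0,0,0,1,0,0,0,0],
   [2,0,0,0,1,2,0,0,0,0,1,0,0,0],
   [0,0,0,0,1,2,1,0,0,2,0,1,0,0],
   [1,1,1,2,0,0,0,2,0,0,0,0,1,0],
   [2,1,0,1,2,2,1,2,1,1,0,1,0,1]] := by decide +kernel

theorem word2_2 : ([0, 1, 0, 1, 0, 1, 1] : List ℕ).foldr (fun g M => lmul M ([aLit, bLit].getD g lone)) ([[1,0,0,0,0,2,0,0,0,0,0,0,0,0],
   [2,1,2,2,1,2,2,0,2,2,0,2,1,2],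
   [1,0,1,2,1,2,2,0,2,2,0,2,2,2],
   [1,2,1,0,0,1,0,2,0,2,0,2,2,2],
   [2,0,0,0,1,2,0,0,0,1,1,0,0,0],
   [0,0,0,0,2,2,2,0,0,1,0,2,0,0],
   [0,0,0,0,0,1,0,0,0,1,0,2,0,0],
   [2,2,1,1,0,0,0,2,0,0,0,0,2,0],
   [1,2,1,0,0,1,0,1,0,2,0,2,0,2],
   [0,0,0,0,2,0,0,0,0,1,0,0,0,0],
   [2,0,0,0,1,2,0,0,0,0,1,0,0,0],
   [0,0,0,0,1,2,1,0,0,2,0,1,0,0],
   [1,1,1,2,0,0,0,2,0,0,0,0,1,0],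
   [2,1,0,1,2,2,1,2,1,1,0,1,0,1]]) =
    [[1,0,0,0,2,0,0,0,0,0,0,0,0,0],
   [0,1,0,0,0,0,0,0,0,0,0,0,0,0],
   [0,0,1,0,0,0,0,0,0,0,0,0,0,0],
   [0,0,0,1,0,0,0,0,0,0,0,0,0,0],
   [0,0,0,0,1,0,0,0,0,0,0,0,0,0],
   [0,0,0,0,0,1,0,0,0,0,0,0,0,0],
   [0,0,0,0,0,0,1,0,0,0,0,0,0,0],
   [0,0,0,0,0,0,0,1,0,0,0,0,0,0],
   [0,0,0,0,0,0,0,0,1,0,0,0,0,0],
   [0,0,0,0,0,2,0,0,0,1,0,0,0,0],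
   [0,0,0,0,0,0,1,0,0,0,1,0,0,0],
   [2,0,0,0,2,0,0,0,0,0,0,1,0,0],
   [0,0,2,0,0,1,0,0,0,1,0,0,1,0],
   [0,0,0,1,0,0,2,0,0,0,1,0,0,1]] := by decide +kernel

theorem word2 : mT [aLit, bLit] [0, 1, 0, 1, 0, 1, 1, 0, 1, 1, 0, 1, 0, 1, 1, 0, 1, 1, 0, 1, 0, 1, 0, 1, 1, 0, 1, 0, 1, 0, 1, 1, 0, 1, 1, 0, 1, 0, 1, 1, 0, 1, 0, 1, 0, 1, 1, 0, 1, 1, 0, 1, 0, 1, 1] = [[1,0,0,0,2,0,0,0,0,0,0,0,0,0],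
   [0,1,0,0,0,0,0,0,0,0,0,0,0,0],
   [0,0,1,0,0,0,0,0,0,0,0,0,0,0],
   [0,0,0,1,0,0,0,0,0,0,0,0,0,0],
   [0,0,0,0,1,0,0,0,0,0,0,0,0,0],
   [0,0,0,0,0,1,0,0,0,0,0,0,0,0],
   [0,0,0,0,0,0,1,0,0,0,0,0,0,0],
   [0,0,0,0,0,0,0,1,0,0,0,0,0,0],
   [0,0,0,0,0,0,0,0,1,0,0,0,0,0],
   [0,0,0,0,0,2,0,0,0,1,0,0,0,0],
   [0,0,0,0,0,0,1,0,0,0,1,0,0,0],
   [2,0,0,0,2,0,0,0,0,0,0,1,0,0],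
   [0,0,2,0,0,1,0,0,0,1,0,0,1,0],
   [0,0,0,1,0,0,2,0,0,0,1,0,0,1]] := by
  rw [show ([0, 1, 0, 1, 0, 1, 1, 0, 1, 1, 0, 1, 0, 1, 1, 0, 1, 1, 0, 1, 0, 1, 0, 1, 1, 0, 1, 0, 1, 0, 1, 1, 0, 1, 1, 0, 1, 0, 1, 1, 0, 1, 0, 1, 0, 1, 1, 0, 1, 1, 0, 1, 0, 1, 1] : List ℕ) = ([0, 1, 0, 1, 0, 1, 1] : List ℕ) ++ (([0, 1, 1, 0, 1, 0, 1, 1, 0, 1, 1, 0, 1, 0, 1, 0, 1, 1, 0, 1, 0, 1, 0, 1] : List ℕ) ++ (([1, 0, 1, 1, 0, 1, 0, 1, 1, 0, 1, 0, 1, 0, 1, 1, 0, 1, 1, 0, 1, 0, 1, 1] : List ℕ))) from rfl, mT_eq_foldr, List.foldr_append, List.foldr_append,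
    word2_0, word2_1, word2_2]

theorem word3_0 : ([1, 0, 1, 1, 0, 1, 0, 1, 0, 1, 0, 1, 0, 1, 1, 0, 1, 0, 1, 0, 1, 0, 1, 1] : List ℕ).foldr (fun g M => lmul M ([aLit, bLit].getD g lone)) (lone) =
    [[1,0,0,0,1,2,0,0,0,2,2,2,0,0],
   [1,0,2,2,1,2,1,2,1,1,0,2,0,1],
   [0,2,2,2,1,1,0,2,2,2,1,2,2,0],
   [2,2,0,2,0,0,1,0,0,0,2,2,1,2],
   [1,0,0,0,1,0,1,0,0,1,1,1,0,0],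
   [2,0,0,0,0,2,2,0,0,1,0,0,0,0],
   [2,0,0,0,2,0,1,0,0,2,1,0,0,0],
   [0,2,0,0,0,0,0,1,2,2,1,2,2,0],
   [1,0,1,0,1,2,1,1,2,0,1,1,2,1],
   [2,0,0,0,0,2,2,0,0,0,1,1,0,0],
   [1,0,0,0,2,1,1,0,0,1,0,2,0,0],
   [0,0,0,0,2,0,2,0,0,1,1,2,0,0],
   [2,0,2,2,1,0,2,1,0,2,2,2,2,1],
   [0,2,1,2,2,0,1,2,2,1,1,1,0,1]] := by decide +kernel

theorem word3_1 : ([0, 1, 0, 1, 0, 1, 1, 0, 1, 1, 0, 1, 0, 1, 0, 1, 1, 0, 1, 0, 1, 0, 1, 0] : List ℕ).foldr (fun g M => lmul M ([aLit, bLit].getD g lone)) ([[1,0,0,0,1,2,0,0,0,2,2,2,0,0],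
   [1,0,2,2,1,2,1,2,1,1,0,2,0,1],
   [0,2,2,2,1,1,0,2,2,2,1,2,2,0],
   [2,2,0,2,0,0,1,0,0,0,2,2,1,2],
   [1,0,0,0,1,0,1,0,0,1,1,1,0,0],
   [2,0,0,0,0,2,2,0,0,1,0,0,0,0],
   [2,0,0,0,2,0,1,0,0,2,1,0,0,0],
   [0,2,0,0,0,0,0,1,2,2,1,2,2,0],
   [1,0,1,0,1,2,1,1,2,0,1,1,2,1],
   [2,0,0,0,0,2,2,0,0,0,1,1,0,0],
   [1,0,0,0,2,1,1,0,0,1,0,2,0,0],
   [0,0,0,0,2,0,2,0,0,1,1,2,0,0],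
   [2,0,2,2,1,0,2,1,0,2,2,2,2,1],
   [0,2,1,2,2,0,1,2,2,1,1,1,0,1]]) =
    [[1,0,0,0,2,2,1,0,0,0,2,1,0,0],
   [2,2,0,2,0,0,1,0,2,0,0,0,0,1],
   [2,2,1,2,1,1,0,2,0,1,0,0,1,0],
   [1,2,1,0,2,0,1,0,1,0,2,0,0,2],
   [1,0,0,0,1,1,1,0,0,0,0,2,0,0],
   [1,0,0,0,2,0,1,0,0,1,0,2,0,0],
   [0,0,0,0,2,0,2,0,0,0,2,0,0,0],
   [1,1,0,2,0,0,2,0,1,0,2,2,1,2],
   [0,0,0,1,0,0,0,0,1,0,0,0,0,0],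
   [2,0,0,0,1,0,1,0,0,2,1,0,0,0],
   [0,0,0,0,2,0,0,0,0,0,2,0,0,0],
   [0,0,0,0,2,2,0,0,0,0,2,1,0,0],
   [2,1,2,1,1,2,0,1,1,0,1,1,2,1],
   [1,2,1,0,0,0,0,0,0,0,0,0,0,2]] := by decide +kernel

theorem word3_2 : ([0, 1, 0, 1, 1, 0, 1] : List ℕ).foldr (fun g M => lmul M ([aLit, bLit].getD g lone)) ([[1,0,0,0,2,2,1,0,0,0,2,1,0,0],
   [2,2,0,2,0,0,1,0,2,0,0,0,0,1],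
   [2,2,1,2,1,1,0,2,0,1,0,0,1,0],
   [1,2,1,0,2,0,1,0,1,0,2,0,0,2],
   [1,0,0,0,1,1,1,0,0,0,0,2,0,0],
   [1,0,0,0,2,0,1,0,0,1,0,2,0,0],
   [0,0,0,0,2,0,2,0,0,0,2,0,0,0],
   [1,1,0,2,0,0,2,0,1,0,2,2,1,2],
   [0,0,0,1,0,0,0,0,1,0,0,0,0,0],
   [2,0,0,0,1,0,1,0,0,2,1,0,0,0],
   [0,0,0,0,2,0,0,0,0,0,2,0,0,0],
   [0,0,0,0,2,2,0,0,0,0,2,1,0,0],
   [2,1,2,1,1,2,0,1,1,0,1,1,2,1],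
   [1,2,1,0,0,0,0,0,0,0,0,0,0,2]]) =
    [[1,0,0,0,0,1,0,0,0,0,0,0,0,0],
   [0,1,0,0,0,2,0,0,0,0,0,0,0,0],
   [0,0,1,0,0,0,0,0,0,0,0,0,0,0],
   [0,0,0,1,0,0,0,0,0,0,0,0,0,0],
   [0,0,0,0,1,0,0,0,0,0,0,0,0,0],
   [0,0,0,0,0,1,0,0,0,0,0,0,0,0],
   [0,0,0,0,2,0,1,0,0,0,0,0,0,0],
   [0,0,0,0,0,0,0,1,0,0,0,0,0,0],
   [0,0,2,0,2,0,2,0,1,0,0,0,0,0],
   [0,0,0,0,0,0,0,0,0,1,0,0,0,0],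
   [1,0,0,0,0,2,0,0,0,0,1,0,0,0],
   [0,0,0,0,0,0,0,0,0,1,0,1,0,0],
   [0,0,0,0,0,0,0,0,0,0,0,0,1,0],
   [0,0,0,0,0,0,0,1,0,1,0,2,0,1]] := by decide +kernel

theorem word3 : mT [aLit, bLit] [0, 1, 0, 1, 1, 0, 1, 0, 1, 0, 1, 0, 1, 1, 0, 1, 1, 0, 1, 0, 1, 0, 1, 1, 0, 1, 0, 1, 0, 1, 0, 1, 0, 1, 1, 0, 1, 0, 1, 0, 1, 0, 1, 0, 1, 1, 0, 1, 0, 1, 0, 1, 0, 1, 1] = [[1,0,0,0,0,1,0,0,0,0,0,0,0,0],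
   [0,1,0,0,0,2,0,0,0,0,0,0,0,0],
   [0,0,1,0,0,0,0,0,0,0,0,0,0,0],
   [0,0,0,1,0,0,0,0,0,0,0,0,0,0],
   [0,0,0,0,1,0,0,0,0,0,0,0,0,0],
   [0,0,0,0,0,1,0,0,0,0,0,0,0,0],
   [0,0,0,0,2,0,1,0,0,0,0,0,0,0],
   [0,0,0,0,0,0,0,1,0,0,0,0,0,0],
   [0,0,2,0,2,0,2,0,1,0,0,0,0,0],
   [0,0,0,0,0,0,0,0,0,1,0,0,0,0],
   [1,0,0,0,0,2,0,0,0,0,1,0,0,0],
   [0,0,0,0,0,0,0,0,0,1,0,1,0,0],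
   [0,0,0,0,0,0,0,0,0,0,0,0,1,0],
   [0,0,0,0,0,0,0,1,0,1,0,2,0,1]] := by
  rw [show ([0, 1, 0, 1, 1, 0, 1, 0, 1, 0, 1, 0, 1, 1, 0, 1, 1, 0, 1, 0, 1, 0, 1, 1, 0, 1, 0, 1, 0, 1, 0, 1, 0, 1, 1, 0, 1, 0, 1, 0, 1, 0, 1, 0, 1, 1, 0, 1, 0, 1, 0, 1, 0, 1, 1] : List ℕ) = ([0, 1, 0, 1, 1, 0, 1] : List ℕ) ++ (([0, 1, 0, 1, 0, 1, 1, 0, 1, 1, 0, 1, 0, 1, 0, 1, 1, 0, 1, 0, 1, 0, 1, 0] : List ℕ) ++ (([1, 0, 1, 1, 0, 1, 0, 1, 0, 1, 0, 1, 0, 1, 1, 0, 1, 0, 1, 0, 1, 0, 1, 1] : List ℕ))) from rfl, mT_eq_foldr, List.foldr_append, List.foldr_append,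
    word3_0, word3_1, word3_2]

theorem word4_0 : ([0, 1, 1, 0, 1, 1, 0, 1, 1, 0, 1, 0, 1, 0, 1, 0, 1, 0, 1, 1, 0, 1, 0, 1] : List ℕ).foldr (fun g M => lmul M ([aLit, bLit].getD g lone)) (lone) =
    [[0,0,0,0,2,1,1,0,0,0,0,2,0,0],
   [2,1,0,2,2,2,1,2,1,1,1,0,2,2],
   [0,0,2,1,2,1,1,1,2,2,2,1,2,1],
   [2,1,1,0,0,1,0,1,0,2,0,1,2,2],
   [1,0,0,0,2,1,0,0,0,0,1,2,0,0],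
   [1,0,0,0,1,0,2,0,0,2,0,1,0,0],
   [1,0,0,0,2,0,0,0,0,2,1,1,0,0],
   [1,1,1,1,1,2,0,2,0,1,0,0,2,0],
   [0,2,1,1,0,1,1,1,2,2,1,0,1,2],
   [0,0,0,0,2,2,0,0,0,2,0,0,0,0],
   [0,0,0,0,0,1,1,0,0,1,2,0,0,0],
   [1,0,0,0,2,2,2,0,0,0,0,1,0,0],
   [1,1,0,1,1,2,0,1,0,1,0,0,2,0],
   [0,1,1,1,0,1,1,2,1,2,1,0,1,2]] := by decide +kernel

theorem word4_1 : ([1, 1, 0, 1, 1, 0, 1, 0, 1, 0, 1, 1, 0, 1, 1, 0, 1, 0, 1, 0, 1] : List ℕ).foldr (fun g M => lmul M ([aLit, bLit].getD g lone)) ([[0,0,0,0,2,1,1,0,0,0,0,2,0,0],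
   [2,1,0,2,2,2,1,2,1,1,1,0,2,2],
   [0,0,2,1,2,1,1,1,2,2,2,1,2,1],
   [2,1,1,0,0,1,0,1,0,2,0,1,2,2],
   [1,0,0,0,2,1,0,0,0,0,1,2,0,0],
   [1,0,0,0,1,0,2,0,0,2,0,1,0,0],
   [1,0,0,0,2,0,0,0,0,2,1,1,0,0],
   [1,1,1,1,1,2,0,2,0,1,0,0,2,0],
   [0,2,1,1,0,1,1,1,2,2,1,0,1,2],
   [0,0,0,0,2,2,0,0,0,2,0,0,0,0],
   [0,0,0,0,0,1,1,0,0,1,2,0,0,0],
   [1,0,0,0,2,2,2,0,0,0,0,1,0,0],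
   [1,1,0,1,1,2,0,1,0,1,0,0,2,0],
   [0,1,1,1,0,1,1,2,1,2,1,0,1,2]]) =
    [[1,0,0,0,0,0,1,0,0,0,0,0,0,0],
   [0,1,0,0,0,0,1,0,0,0,0,0,0,0],
   [0,0,1,0,0,0,0,0,0,0,0,0,0,0],
   [0,0,0,1,0,0,0,0,0,0,0,0,0,0],
   [0,0,0,0,1,0,0,0,0,0,0,0,0,0],
   [0,0,0,0,1,1,0,0,0,0,0,0,0,0],
   [0,0,0,0,0,0,1,0,0,0,0,0,0,0],
   [0,0,0,1,1,2,0,1,0,0,0,0,0,0],
   [0,0,0,0,0,0,0,0,1,0,0,0,0,0],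
   [1,0,0,0,0,0,2,0,0,1,0,0,0,0],
   [0,0,0,0,0,0,0,0,0,0,1,0,0,0],
   [0,0,0,0,0,0,0,0,0,0,2,1,0,0],
   [0,0,0,0,0,0,0,0,2,0,2,2,1,0],
   [0,0,0,0,0,0,0,0,0,0,0,0,0,1]] := by decide +kernel

theorem word4 : mT [aLit, bLit] [1, 1, 0, 1, 1, 0, 1, 0, 1, 0, 1, 1, 0, 1, 1, 0, 1, 0, 1, 0, 1, 0, 1, 1, 0, 1, 1, 0, 1, 1, 0, 1, 0, 1, 0, 1, 0, 1, 0, 1, 1, 0, 1, 0, 1] = [[1,0,0,0,0,0,1,0,0,0,0,0,0,0],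
   [0,1,0,0,0,0,1,0,0,0,0,0,0,0],
   [0,0,1,0,0,0,0,0,0,0,0,0,0,0],
   [0,0,0,1,0,0,0,0,0,0,0,0,0,0],
   [0,0,0,0,1,0,0,0,0,0,0,0,0,0],
   [0,0,0,0,1,1,0,0,0,0,0,0,0,0],
   [0,0,0,0,0,0,1,0,0,0,0,0,0,0],
   [0,0,0,1,1,2,0,1,0,0,0,0,0,0],
   [0,0,0,0,0,0,0,0,1,0,0,0,0,0],
   [1,0,0,0,0,0,2,0,0,1,0,0,0,0],
   [0,0,0,0,0,0,0,0,0,0,1,0,0,0],
   [0,0,0,0,0,0,0,0,0,0,2,1,0,0],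
   [0,0,0,0,0,0,0,0,2,0,2,2,1,0],
   [0,0,0,0,0,0,0,0,0,0,0,0,0,1]] := by
  rw [show ([1, 1, 0, 1, 1, 0, 1, 0, 1, 0, 1, 1, 0, 1, 1, 0, 1, 0, 1, 0, 1, 0, 1, 1, 0, 1, 1, 0, 1, 1, 0, 1, 0, 1, 0, 1, 0, 1, 0, 1, 1, 0, 1, 0, 1] : List ℕ) = ([1, 1, 0, 1, 1, 0, 1, 0, 1, 0, 1, 1, 0, 1, 1, 0, 1, 0, 1, 0, 1] : List ℕ) ++ (([0, 1, 1, 0, 1, 1, 0, 1, 1, 0, 1, 0, 1, 0, 1, 0, 1, 0, 1, 1, 0, 1, 0, 1] : List ℕ)) from rfl, mT_eq_foldr, List.foldr_append,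
    word4_0, word4_1]

theorem word5_0 : ([0, 1, 1, 0, 1, 1, 0, 1, 1, 0, 1, 1, 0, 1, 0, 1, 0, 1, 0, 1, 1, 0, 1, 1] : List ℕ).foldr (fun g M => lmul M ([aLit, bLit].getD g lone)) (lone) =
    [[0,0,0,0,2,2,1,0,0,0,2,0,0,0],
   [1,2,2,1,0,1,0,2,2,1,2,0,1,2],
   [1,0,2,2,1,1,0,0,2,1,1,2,1,2],
   [2,2,1,1,2,2,0,1,0,1,0,0,2,0],
   [2,0,0,0,0,2,2,0,0,1,0,2,0,0],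
   [0,0,0,0,2,1,0,0,0,2,2,2,0,0],
   [1,0,0,0,1,0,1,0,0,1,0,1,0,0],
   [0,1,1,2,1,1,0,2,2,1,1,2,2,0],
   [2,2,0,2,0,0,1,0,1,0,2,2,1,1],
   [2,0,0,0,1,0,2,0,0,2,1,1,0,0],
   [2,0,0,0,2,0,0,0,0,2,1,1,0,0],
   [1,0,0,0,1,1,0,0,0,0,2,0,0,0],
   [1,2,1,1,1,1,2,2,2,1,0,1,0,1],
   [1,2,2,0,0,1,0,2,0,1,0,1,0,1]] := by decide +kernel

theorem word5_1 : ([1, 1, 0, 1, 0, 1, 0, 1, 1, 0, 1, 0, 1, 0, 1, 0, 1, 0, 1, 1, 0, 1, 0, 1] : List ℕ).foldr (fun g M => lmul M ([aLit, bLit].getD g lone)) ([[0,0,0,0,2,2,1,0,0,0,2,0,0,0],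
   [1,2,2,1,0,1,0,2,2,1,2,0,1,2],
   [1,0,2,2,1,1,0,0,2,1,1,2,1,2],
   [2,2,1,1,2,2,0,1,0,1,0,0,2,0],
   [2,0,0,0,0,2,2,0,0,1,0,2,0,0],
   [0,0,0,0,2,1,0,0,0,2,2,2,0,0],
   [1,0,0,0,1,0,1,0,0,1,0,1,0,0],
   [0,1,1,2,1,1,0,2,2,1,1,2,2,0],
   [2,2,0,2,0,0,1,0,1,0,2,2,1,1],
   [2,0,0,0,1,0,2,0,0,2,1,1,0,0],
   [2,0,0,0,2,0,0,0,0,2,1,1,0,0],
   [1,0,0,0,1,1,0,0,0,0,2,0,0,0],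
   [1,2,1,1,1,1,2,2,2,1,0,1,0,1],
   [1,2,2,0,0,1,0,2,0,1,0,1,0,1]]) =
    [[0,0,0,0,2,1,2,0,0,2,2,2,0,0],
   [0,2,1,0,0,0,2,0,1,1,0,2,1,0],
   [2,1,1,0,2,0,1,1,1,2,1,2,1,1],
   [0,0,0,0,0,0,0,2,0,1,0,1,2,1],
   [2,0,0,0,0,2,0,0,0,0,1,2,0,0],
   [0,0,0,0,1,0,1,0,0,1,2,2,0,0],
   [2,0,0,0,0,2,0,0,0,2,1,0,0,0],
   [2,0,2,1,1,0,2,2,1,1,2,1,1,0],
   [0,1,1,0,2,1,1,0,1,2,0,2,1,2],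
   [1,0,0,0,2,1,1,0,0,2,0,0,0,0],
   [2,0,0,0,2,1,2,0,0,1,1,1,0,0],
   [1,0,0,0,0,0,1,0,0,2,0,0,0,0],
   [0,0,0,2,1,1,0,1,0,0,0,0,0,0],
   [0,0,0,2,1,1,0,1,1,0,2,1,1,0]] := by decide +kernel

theorem word5_2 : ([0, 1, 0, 1, 0, 1, 0, 1, 0, 1, 0, 1, 0] : List ℕ).foldr (fun g M => lmul M ([aLit, bLit].getD g lone)) ([[0,0,0,0,2,1,2,0,0,2,2,2,0,0],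
   [0,2,1,0,0,0,2,0,1,1,0,2,1,0],
   [2,1,1,0,2,0,1,1,1,2,1,2,1,1],
   [0,0,0,0,0,0,0,2,0,1,0,1,2,1],
   [2,0,0,0,0,2,0,0,0,0,1,2,0,0],
   [0,0,0,0,1,0,1,0,0,1,2,2,0,0],
   [2,0,0,0,0,2,0,0,0,2,1,0,0,0],
   [2,0,2,1,1,0,2,2,1,1,2,1,1,0],
   [0,1,1,0,2,1,1,0,1,2,0,2,1,2],
   [1,0,0,0,2,1,1,0,0,2,0,0,0,0],
   [2,0,0,0,2,1,2,0,0,1,1,1,0,0],
   [1,0,0,0,0,0,1,0,0,2,0,0,0,0],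
   [0,0,0,2,1,1,0,1,0,0,0,0,0,0],
   [0,0,0,2,1,1,0,1,1,0,2,1,1,0]]) =
    [[1,0,0,0,0,0,0,0,0,0,0,0,0,0],
   [0,1,0,0,0,0,0,1,0,0,0,0,0,0],
   [0,0,1,0,0,0,0,0,0,0,0,0,0,0],
   [0,0,1,1,0,0,0,0,0,0,0,0,0,0],
   [0,0,0,0,1,0,0,0,0,0,0,0,0,0],
   [0,0,0,0,0,1,0,0,0,0,0,0,0,0],
   [0,0,0,0,0,1,1,0,0,0,0,0,0,0],
   [0,0,0,0,0,0,0,1,0,0,0,0,0,0],
   [0,1,0,0,0,0,0,2,1,0,0,0,0,0],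
   [0,0,0,0,0,0,0,0,0,1,0,0,0,0],
   [0,0,0,0,0,0,0,0,0,2,1,0,0,0],
   [0,0,0,0,0,0,0,0,0,0,0,1,0,0],
   [0,0,0,0,0,0,0,0,0,0,0,0,1,0],
   [0,0,0,0,0,0,0,0,0,0,0,0,2,1]] := by decide +kernel

theorem word5 : mT [aLit, bLit] [0, 1, 0, 1, 0, 1, 0, 1, 0, 1, 0, 1, 0, 1, 1, 0, 1, 0, 1, 0, 1, 1, 0, 1, 0, 1, 0, 1, 0, 1, 0, 1, 1, 0, 1, 0, 1, 0, 1, 1, 0, 1, 1, 0, 1, 1, 0, 1, 1, 0, 1, 0, 1, 0, 1, 0, 1, 1, 0, 1, 1] = [[1,0,0,0,0,0,0,0,0,0,0,0,0,0],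
   [0,1,0,0,0,0,0,1,0,0,0,0,0,0],
   [0,0,1,0,0,0,0,0,0,0,0,0,0,0],
   [0,0,1,1,0,0,0,0,0,0,0,0,0,0],
   [0,0,0,0,1,0,0,0,0,0,0,0,0,0],
   [0,0,0,0,0,1,0,0,0,0,0,0,0,0],
   [0,0,0,0,0,1,1,0,0,0,0,0,0,0],
   [0,0,0,0,0,0,0,1,0,0,0,0,0,0],
   [0,1,0,0,0,0,0,2,1,0,0,0,0,0],
   [0,0,0,0,0,0,0,0,0,1,0,0,0,0],
   [0,0,0,0,0,0,0,0,0,2,1,0,0,0],
   [0,0,0,0,0,0,0,0,0,0,0,1,0,0],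
   [0,0,0,0,0,0,0,0,0,0,0,0,1,0],
   [0,0,0,0,0,0,0,0,0,0,0,0,2,1]] := by
  rw [show ([0, 1, 0, 1, 0, 1, 0, 1, 0, 1, 0, 1, 0, 1, 1, 0, 1, 0, 1, 0, 1, 1, 0, 1, 0, 1, 0, 1, 0, 1, 0, 1, 1, 0, 1, 0, 1, 0, 1, 1, 0, 1, 1, 0, 1, 1, 0, 1, 1, 0, 1, 0, 1, 0, 1, 0, 1, 1, 0, 1, 1] : List ℕ) = ([0, 1, 0, 1, 0, 1, 0, 1, 0, 1, 0, 1, 0] : List ℕ) ++ (([1, 1, 0, 1, 0, 1, 0, 1, 1, 0, 1, 0, 1, 0, 1, 0, 1, 0, 1, 1, 0, 1, 0, 1] : List ℕ) ++ (([0, 1, 1, 0, 1, 1, 0, 1, 1, 0, 1, 1, 0, 1, 0, 1, 0, 1, 0, 1, 1, 0, 1, 1] : List ℕ))) from rfl, mT_eq_foldr, List.foldr_append, List.foldr_append,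
    word5_0, word5_1, word5_2]

theorem word6_0 : ([0, 1, 0, 1, 0, 1, 0, 1, 0, 1, 1, 0, 1, 0, 1, 0, 1, 0, 1, 0, 1, 0, 1, 1] : List ℕ).foldr (fun g M => lmul M ([aLit, bLit].getD g lone)) (lone) =
    [[1,0,0,0,0,0,2,0,0,0,2,0,0,0],
   [0,1,0,0,0,0,2,0,1,0,1,0,0,2],
   [2,1,2,1,2,0,2,0,2,0,2,0,0,1],
   [0,0,0,2,0,0,0,0,2,0,0,0,0,0],
   [0,0,0,0,1,0,2,0,0,0,1,0,0,0],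
   [1,0,0,0,1,2,0,0,0,0,2,1,0,0],
   [0,0,0,0,0,0,2,0,0,0,0,0,0,0],
   [2,1,0,2,1,1,1,1,1,1,1,1,2,0],
   [0,0,0,0,0,0,0,0,1,0,0,0,0,0],
   [1,0,0,0,0,0,1,0,0,2,1,2,0,0],
   [0,0,0,0,0,0,0,0,0,0,2,0,0,0],
   [0,0,0,0,0,0,0,0,0,0,1,1,0,0],
   [0,0,0,0,0,0,0,0,2,0,1,2,2,2],
   [0,0,0,0,0,0,0,0,0,0,0,0,0,2]] := by decide +kernel

theorem word6_1 : ([0, 1, 0, 1, 0, 1, 0, 1, 0, 1, 1, 0, 1, 0, 1, 0, 1, 0, 1, 0, 1, 0, 1, 1] : List ℕ).foldr (fun g M => lmul M ([aLit, bLit].getD g lone)) ([[1,0,0,0,0,0,2,0,0,0,2,0,0,0],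
   [0,1,0,0,0,0,2,0,1,0,1,0,0,2],
   [2,1,2,1,2,0,2,0,2,0,2,0,0,1],
   [0,0,0,2,0,0,0,0,2,0,0,0,0,0],
   [0,0,0,0,1,0,2,0,0,0,1,0,0,0],
   [1,0,0,0,1,2,0,0,0,0,2,1,0,0],
   [0,0,0,0,0,0,2,0,0,0,0,0,0,0],
   [2,1,0,2,1,1,1,1,1,1,1,1,2,0],
   [0,0,0,0,0,0,0,0,1,0,0,0,0,0],
   [1,0,0,0,0,0,1,0,0,2,1,2,0,0],
   [0,0,0,0,0,0,0,0,0,0,2,0,0,0],
   [0,0,0,0,0,0,0,0,0,0,1,1,0,0],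
   [0,0,0,0,0,0,0,0,2,0,1,2,2,2],
   [0,0,0,0,0,0,0,0,0,0,0,0,0,2]]) =
    [[1,0,0,0,0,0,0,0,0,0,0,0,0,0],
   [0,1,0,0,0,0,0,0,2,0,0,0,0,0],
   [0,0,1,1,0,0,0,0,0,0,0,0,0,0],
   [0,0,0,1,0,0,0,0,0,0,0,0,0,0],
   [0,0,0,0,1,0,0,0,0,0,0,0,0,0],
   [0,0,0,0,0,1,1,0,0,0,0,0,0,0],
   [0,0,0,0,0,0,1,0,0,0,0,0,0,0],
   [0,2,0,0,0,0,0,1,2,0,0,0,0,0],
   [0,0,0,0,0,0,0,0,1,0,0,0,0,0],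
   [0,0,0,0,0,0,0,0,0,1,2,0,0,0],
   [0,0,0,0,0,0,0,0,0,0,1,0,0,0],
   [0,0,0,0,0,0,0,0,0,0,0,1,0,0],
   [0,0,0,0,0,0,0,0,0,0,0,0,1,2],
   [0,0,0,0,0,0,0,0,0,0,0,0,0,1]] := by decide +kernel

theorem word6 : mT [aLit, bLit] [0, 1, 0, 1, 0, 1, 0, 1, 0, 1, 1, 0, 1, 0, 1, 0, 1, 0, 1, 0, 1, 0, 1, 1, 0, 1, 0, 1, 0, 1, 0, 1, 0, 1, 1, 0, 1, 0, 1, 0, 1, 0, 1, 0, 1, 0, 1, 1] = [[1,0,0,0,0,0,0,0,0,0,0,0,0,0],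
   [0,1,0,0,0,0,0,0,2,0,0,0,0,0],
   [0,0,1,1,0,0,0,0,0,0,0,0,0,0],
   [0,0,0,1,0,0,0,0,0,0,0,0,0,0],
   [0,0,0,0,1,0,0,0,0,0,0,0,0,0],
   [0,0,0,0,0,1,1,0,0,0,0,0,0,0],
   [0,0,0,0,0,0,1,0,0,0,0,0,0,0],
   [0,2,0,0,0,0,0,1,2,0,0,0,0,0],
   [0,0,0,0,0,0,0,0,1,0,0,0,0,0],
   [0,0,0,0,0,0,0,0,0,1,2,0,0,0],
   [0,0,0,0,0,0,0,0,0,0,1,0,0,0],
   [0,0,0,0,0,0,0,0,0,0,0,1,0,0],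
   [0,0,0,0,0,0,0,0,0,0,0,0,1,2],
   [0,0,0,0,0,0,0,0,0,0,0,0,0,1]] := by
  rw [show ([0, 1, 0, 1, 0, 1, 0, 1, 0, 1, 1, 0, 1, 0, 1, 0, 1, 0, 1, 0, 1, 0, 1, 1, 0, 1, 0, 1, 0, 1, 0, 1, 0, 1, 1, 0, 1, 0, 1, 0, 1, 0, 1, 0, 1, 0, 1, 1] : List ℕ) = ([0, 1, 0, 1, 0, 1, 0, 1, 0, 1, 1, 0, 1, 0, 1, 0, 1, 0, 1, 0, 1, 0, 1, 1] : List ℕ) ++ (([0, 1, 0, 1, 0, 1, 0, 1, 0, 1, 1, 0, 1, 0, 1, 0, 1, 0, 1, 0, 1, 0, 1, 1] : List ℕ)) from rfl, mT_eq_foldr, List.foldr_append,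
    word6_0, word6_1]

theorem word7_0 : ([0, 1, 0, 1, 0, 1, 1, 0, 1, 1, 0, 1, 1, 0, 1, 0, 1, 0, 1, 0, 1, 0, 1, 0] : List ℕ).foldr (fun g M => lmul M ([aLit, bLit].getD g lone)) (lone) =
    [[0,0,0,0,2,2,1,0,0,2,0,1,0,0],
   [2,2,0,2,2,1,2,2,0,1,2,0,0,2],
   [1,0,1,2,1,0,1,1,0,1,2,2,2,2],
   [1,1,0,2,2,1,0,2,2,1,2,2,2,2],
   [1,0,0,0,2,2,2,0,0,2,2,0,0,0],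
   [0,0,0,0,1,0,2,0,0,1,2,1,0,0],
   [2,0,0,0,0,0,1,0,0,2,0,1,0,0],
   [0,1,2,2,2,0,2,2,2,2,1,1,0,2],
   [0,0,0,0,0,0,0,0,2,0,2,2,1,2],
   [2,0,0,0,2,1,2,0,0,2,0,2,0,0],
   [1,0,0,0,0,0,2,0,0,1,2,0,0,0],
   [0,0,0,0,1,1,1,0,0,0,1,2,0,0],
   [1,0,1,0,2,1,1,2,1,0,2,2,1,1],
   [0,2,0,1,1,2,2,1,0,0,1,1,2,1]] := by decide +kernel

theorem word7_1 : ([1, 0, 1, 0, 1, 0, 1, 0, 1, 0, 1, 0, 1, 1, 0, 1, 1, 0, 1, 1] : List ℕ).foldr (fun g M => lmul M ([aLit, bLit].getD g lone)) ([[0,0,0,0,2,2,1,0,0,2,0,1,0,0],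
   [2,2,0,2,2,1,2,2,0,1,2,0,0,2],
   [1,0,1,2,1,0,1,1,0,1,2,2,2,2],
   [1,1,0,2,2,1,0,2,2,1,2,2,2,2],
   [1,0,0,0,2,2,2,0,0,2,2,0,0,0],
   [0,0,0,0,1,0,2,0,0,1,2,1,0,0],
   [2,0,0,0,0,0,1,0,0,2,0,1,0,0],
   [0,1,2,2,2,0,2,2,2,2,1,1,0,2],
   [0,0,0,0,0,0,0,0,2,0,2,2,1,2],
   [2,0,0,0,2,1,2,0,0,2,0,2,0,0],
   [1,0,0,0,0,0,2,0,0,1,2,0,0,0],
   [0,0,0,0,1,1,1,0,0,0,1,2,0,0],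
   [1,0,1,0,2,1,1,2,1,0,2,2,1,1],
   [0,2,0,1,1,2,2,1,0,0,1,1,2,1]]) =
    [[1,0,0,0,0,0,0,0,0,2,0,0,0,0],
   [0,1,0,0,0,0,0,0,0,2,0,0,0,0],
   [0,0,1,0,0,0,0,0,0,0,0,0,0,0],
   [0,0,0,1,1,2,0,1,0,0,0,0,0,0],
   [0,0,0,0,1,1,0,0,0,0,0,0,0,0],
   [0,0,0,0,0,1,0,0,0,0,0,0,0,0],
   [2,0,0,0,0,0,1,0,0,2,0,0,0,0],
   [0,0,0,0,0,0,0,1,0,0,0,0,0,0],
   [0,0,0,0,0,0,0,0,1,0,1,1,2,0],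
   [0,0,0,0,0,0,0,0,0,1,0,0,0,0],
   [0,0,0,0,0,0,0,0,0,0,1,2,0,0],
   [0,0,0,0,0,0,0,0,0,0,0,1,0,0],
   [0,0,0,0,0,0,0,0,0,0,0,0,1,0],
   [0,0,0,0,0,0,0,0,0,0,0,0,0,1]] := by decide +kernel

theorem word7 : mT [aLit, bLit] [1, 0, 1, 0, 1, 0, 1, 0, 1, 0, 1, 0, 1, 1, 0, 1, 1, 0, 1, 1, 0, 1, 0, 1, 0, 1, 1, 0, 1, 1, 0, 1, 1, 0, 1, 0, 1, 0, 1, 0, 1, 0, 1, 0] = [[1,0,0,0,0,0,0,0,0,2,0,0,0,0],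
   [0,1,0,0,0,0,0,0,0,2,0,0,0,0],
   [0,0,1,0,0,0,0,0,0,0,0,0,0,0],
   [0,0,0,1,1,2,0,1,0,0,0,0,0,0],
   [0,0,0,0,1,1,0,0,0,0,0,0,0,0],
   [0,0,0,0,0,1,0,0,0,0,0,0,0,0],
   [2,0,0,0,0,0,1,0,0,2,0,0,0,0],
   [0,0,0,0,0,0,0,1,0,0,0,0,0,0],
   [0,0,0,0,0,0,0,0,1,0,1,1,2,0],
   [0,0,0,0,0,0,0,0,0,1,0,0,0,0],
   [0,0,0,0,0,0,0,0,0,0,1,2,0,0],
   [0,0,0,0,0,0,0,0,0,0,0,1,0,0],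
   [0,0,0,0,0,0,0,0,0,0,0,0,1,0],
   [0,0,0,0,0,0,0,0,0,0,0,0,0,1]] := by
  rw [show ([1, 0, 1, 0, 1, 0, 1, 0, 1, 0, 1, 0, 1, 1, 0, 1, 1, 0, 1, 1, 0, 1, 0, 1, 0, 1, 1, 0, 1, 1, 0, 1, 1, 0, 1, 0, 1, 0, 1, 0, 1, 0, 1, 0] : List ℕ) = ([1, 0, 1, 0, 1, 0, 1, 0, 1, 0, 1, 0, 1, 1, 0, 1, 1, 0, 1, 1] : List ℕ) ++ (([0, 1, 0, 1, 0, 1, 1, 0, 1, 1, 0, 1, 1, 0, 1, 0, 1, 0, 1, 0, 1, 0, 1, 0] : List ℕ)) from rfl, mT_eq_foldr, List.foldr_append,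
    word7_0, word7_1]

theorem word8_0 : ([0, 1, 0, 1, 1, 0, 1, 1, 0, 1, 1, 0, 1, 0, 1, 0, 1, 0, 1, 1, 0, 1, 1, 0] : List ℕ).foldr (fun g M => lmul M ([aLit, bLit].getD g lone)) (lone) =
    [[0,0,0,0,1,2,1,0,0,0,0,1,0,0],
   [1,1,1,0,1,1,0,1,1,1,0,2,0,2],
   [2,1,2,1,2,1,1,1,0,2,1,0,1,2],
   [2,0,1,1,1,2,0,2,1,1,1,1,0,1],
   [1,0,0,0,1,0,2,0,0,2,1,1,0,0],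
   [0,0,0,0,2,2,2,0,0,2,1,0,0,0],
   [2,0,0,0,0,1,1,0,0,2,0,1,0,0],
   [2,2,1,0,2,1,1,0,1,2,1,0,1,2],
   [2,1,1,1,1,2,0,1,2,0,2,2,1,2],
   [1,0,0,0,0,1,0,0,0,1,2,1,0,0],
   [2,0,0,0,1,2,1,0,0,2,2,2,0,0],
   [2,0,0,0,0,2,0,0,0,0,1,1,0,0],
   [0,0,0,0,0,0,0,2,0,1,0,1,1,1],
   [2,1,2,0,1,0,2,1,2,2,1,2,2,0]] := by decide +kernel

theorem word8_1 : ([1, 1, 0, 1, 0, 1] : List ℕ).foldr (fun g M => lmul M ([aLit, bLit].getD g lone)) ([[0,0,0,0,1,2,1,0,0,0,0,1,0,0],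
   [1,1,1,0,1,1,0,1,1,1,0,2,0,2],
   [2,1,2,1,2,1,1,1,0,2,1,0,1,2],
   [2,0,1,1,1,2,0,2,1,1,1,1,0,1],
   [1,0,0,0,1,0,2,0,0,2,1,1,0,0],
   [0,0,0,0,2,2,2,0,0,2,1,0,0,0],
   [2,0,0,0,0,1,1,0,0,2,0,1,0,0],
   [2,2,1,0,2,1,1,0,1,2,1,0,1,2],
   [2,1,1,1,1,2,0,1,2,0,2,2,1,2],
   [1,0,0,0,0,1,0,0,0,1,2,1,0,0],
   [2,0,0,0,1,2,1,0,0,2,2,2,0,0],
   [2,0,0,0,0,2,0,0,0,0,1,1,0,0],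
   [0,0,0,0,0,0,0,2,0,1,0,1,1,1],
   [2,1,2,0,1,0,2,1,2,2,1,2,2,0]]) =
    [[1,0,0,0,0,0,0,0,0,0,2,0,0,0],
   [0,1,0,0,0,0,0,0,0,0,1,0,0,0],
   [0,0,1,0,1,0,1,0,2,0,0,0,0,0],
   [0,0,0,1,0,0,0,0,0,0,0,0,0,0],
   [0,0,0,0,1,0,2,0,0,0,0,0,0,0],
   [2,0,0,0,0,1,0,0,0,0,2,0,0,0],
   [0,0,0,0,0,0,1,0,0,0,0,0,0,0],
   [0,0,0,0,0,0,0,1,0,1,0,2,0,1],
   [0,0,0,0,0,0,0,0,1,0,0,0,0,0],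
   [0,0,0,0,0,0,0,0,0,1,0,1,0,0],
   [0,0,0,0,0,0,0,0,0,0,1,0,0,0],
   [0,0,0,0,0,0,0,0,0,0,0,1,0,0],
   [0,0,0,0,0,0,0,0,0,0,0,0,1,0],
   [0,0,0,0,0,0,0,0,0,0,0,0,0,1]] := by decide +kernel

theorem word8 : mT [aLit, bLit] [1, 1, 0, 1, 0, 1, 0, 1, 0, 1, 1, 0, 1, 1, 0, 1, 1, 0, 1, 0, 1, 0, 1, 0, 1, 1, 0, 1, 1, 0] = [[1,0,0,0,0,0,0,0,0,0,2,0,0,0],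
   [0,1,0,0,0,0,0,0,0,0,1,0,0,0],
   [0,0,1,0,1,0,1,0,2,0,0,0,0,0],
   [0,0,0,1,0,0,0,0,0,0,0,0,0,0],
   [0,0,0,0,1,0,2,0,0,0,0,0,0,0],
   [2,0,0,0,0,1,0,0,0,0,2,0,0,0],
   [0,0,0,0,0,0,1,0,0,0,0,0,0,0],
   [0,0,0,0,0,0,0,1,0,1,0,2,0,1],
   [0,0,0,0,0,0,0,0,1,0,0,0,0,0],
   [0,0,0,0,0,0,0,0,0,1,0,1,0,0],
   [0,0,0,0,0,0,0,0,0,0,1,0,0,0],
   [0,0,0,0,0,0,0,0,0,0,0,1,0,0],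
   [0,0,0,0,0,0,0,0,0,0,0,0,1,0],
   [0,0,0,0,0,0,0,0,0,0,0,0,0,1]] := by
  rw [show ([1, 1, 0, 1, 0, 1, 0, 1, 0, 1, 1, 0, 1, 1, 0, 1, 1, 0, 1, 0, 1, 0, 1, 0, 1, 1, 0, 1, 1, 0] : List ℕ) = ([1, 1, 0, 1, 0, 1] : List ℕ) ++ (([0, 1, 0, 1, 1, 0, 1, 1, 0, 1, 1, 0, 1, 0, 1, 0, 1, 0, 1, 1, 0, 1, 1, 0] : List ℕ)) from rfl, mT_eq_foldr, List.foldr_append,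
    word8_0, word8_1]

theorem word9_0 : ([0, 1, 0, 1, 0, 1, 1, 0, 1, 1, 0, 1, 0, 1, 0, 1, 1, 0, 1, 1, 0, 1, 1, 0] : List ℕ).foldr (fun g M => lmul M ([aLit, bLit].getD g lone)) (lone) =
    [[2,0,0,0,0,0,2,0,0,0,1,1,0,0],
   [2,2,0,1,0,0,2,0,1,0,0,1,0,0],
   [0,2,1,1,1,0,1,1,1,1,2,2,0,1],
   [1,2,1,0,0,1,0,0,0,2,0,2,1,2],
   [1,0,0,0,2,2,0,0,0,2,2,2,0,0],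
   [0,0,0,0,1,0,2,0,0,1,2,1,0,0],
   [2,0,0,0,1,0,0,0,0,0,1,2,0,0],
   [1,1,0,1,0,0,0,0,2,0,0,0,2,1],
   [0,0,0,2,0,0,2,0,2,0,2,0,0,1],
   [0,0,0,0,0,0,2,0,0,0,0,1,0,0],
   [0,0,0,0,0,0,1,0,0,0,2,0,0,0],
   [0,0,0,0,0,0,0,0,0,0,2,0,0,0],
   [0,0,0,0,0,0,0,0,2,0,0,0,0,1],
   [0,0,0,0,0,0,0,0,1,0,0,0,0,0]] := by decide +kernel

theorem word9_1 : ([0, 1, 0, 1, 1, 0, 1, 0, 1, 0, 1, 0, 1, 0, 1, 1, 0, 1, 1, 0, 1, 1, 0, 1] : List ℕ).foldr (fun g M => lmul M ([aLit, bLit].getD g lone)) ([[2,0,0,0,0,0,2,0,0,0,1,1,0,0],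
   [2,2,0,1,0,0,2,0,1,0,0,1,0,0],
   [0,2,1,1,1,0,1,1,1,1,2,2,0,1],
   [1,2,1,0,0,1,0,0,0,2,0,2,1,2],
   [1,0,0,0,2,2,0,0,0,2,2,2,0,0],
   [0,0,0,0,1,0,2,0,0,1,2,1,0,0],
   [2,0,0,0,1,0,0,0,0,0,1,2,0,0],
   [1,1,0,1,0,0,0,0,2,0,0,0,2,1],
   [0,0,0,2,0,0,2,0,2,0,2,0,0,1],
   [0,0,0,0,0,0,2,0,0,0,0,1,0,0],
   [0,0,0,0,0,0,1,0,0,0,2,0,0,0],
   [0,0,0,0,0,0,0,0,0,0,2,0,0,0],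
   [0,0,0,0,0,0,0,0,2,0,0,0,0,1],
   [0,0,0,0,0,0,0,0,1,0,0,0,0,0]]) =
    [[0,0,0,0,1,0,1,0,0,1,1,0,0,0],
   [2,2,2,2,0,1,2,0,1,0,2,0,1,2],
   [2,1,1,2,2,2,2,1,0,1,2,0,2,1],
   [1,0,2,1,1,1,1,0,2,1,0,2,1,1],
   [1,0,0,0,0,1,2,0,0,2,1,1,0,0],
   [2,0,0,0,2,0,2,0,0,2,1,2,0,0],
   [2,0,0,0,1,1,0,0,0,2,2,0,0,0],
   [0,1,2,0,1,1,2,2,2,2,0,2,2,2],
   [2,1,1,0,0,1,0,1,0,2,0,1,2,2],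
   [2,0,0,0,0,2,0,0,0,1,1,0,0,0],
   [2,0,0,0,1,0,0,0,0,1,2,2,0,0],
   [2,0,0,0,1,1,1,0,0,2,1,2,0,0],
   [0,2,1,0,2,2,1,0,1,2,0,2,2,2],
   [0,2,1,1,0,1,1,1,2,2,1,0,1,2]] := by decide +kernel

theorem word9_2 : ([0, 1, 0, 1] : List ℕ).foldr (fun g M => lmul M ([aLit, bLit].getD g lone)) ([[0,0,0,0,1,0,1,0,0,1,1,0,0,0],
   [2,2,2,2,0,1,2,0,1,0,2,0,1,2],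
   [2,1,1,2,2,2,2,1,0,1,2,0,2,1],
   [1,0,2,1,1,1,1,0,2,1,0,2,1,1],
   [1,0,0,0,0,1,2,0,0,2,1,1,0,0],
   [2,0,0,0,2,0,2,0,0,2,1,2,0,0],
   [2,0,0,0,1,1,0,0,0,2,2,0,0,0],
   [0,1,2,0,1,1,2,2,2,2,0,2,2,2],
   [2,1,1,0,0,1,0,1,0,2,0,1,2,2],
   [2,0,0,0,0,2,0,0,0,1,1,0,0,0],
   [2,0,0,0,1,0,0,0,0,1,2,2,0,0],
   [2,0,0,0,1,1,1,0,0,2,1,2,0,0],
   [0,2,1,0,2,2,1,0,1,2,0,2,2,2],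
   [0,2,1,1,0,1,1,1,2,2,1,0,1,2]]) =
    [[1,0,0,0,0,0,0,0,0,0,0,1,0,0],
   [0,1,0,0,0,0,0,0,0,0,0,0,0,0],
   [0,0,1,0,0,2,0,0,0,2,0,0,2,0],
   [0,0,0,1,0,0,2,0,0,0,1,0,0,1],
   [1,0,0,0,1,0,0,0,0,0,0,2,0,0],
   [0,0,0,0,0,1,0,0,0,2,0,0,0,0],
   [0,0,0,0,0,0,1,0,0,0,1,0,0,0],
   [0,0,0,0,0,0,0,1,0,0,0,0,0,0],
   [0,0,0,0,0,0,0,0,1,0,0,0,0,0],
   [0,0,0,0,0,0,0,0,0,1,0,0,0,0],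
   [0,0,0,0,0,0,0,0,0,0,1,0,0,0],
   [0,0,0,0,0,0,0,0,0,0,0,1,0,0],
   [0,0,0,0,0,0,0,0,0,0,0,0,1,0],
   [0,0,0,0,0,0,0,0,0,0,0,0,0,1]] := by decide +kernel

theorem word9 : mT [aLit, bLit] [0, 1, 0, 1, 0, 1, 0, 1, 1, 0, 1, 0, 1, 0, 1, 0, 1, 0, 1, 1, 0, 1, 1, 0, 1, 1, 0, 1, 0, 1, 0, 1, 0, 1, 1, 0, 1, 1, 0, 1, 0, 1, 0, 1, 1, 0, 1, 1, 0, 1, 1, 0] = [[1,0,0,0,0,0,0,0,0,0,0,1,0,0],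
   [0,1,0,0,0,0,0,0,0,0,0,0,0,0],
   [0,0,1,0,0,2,0,0,0,2,0,0,2,0],
   [0,0,0,1,0,0,2,0,0,0,1,0,0,1],
   [1,0,0,0,1,0,0,0,0,0,0,2,0,0],
   [0,0,0,0,0,1,0,0,0,2,0,0,0,0],
   [0,0,0,0,0,0,1,0,0,0,1,0,0,0],
   [0,0,0,0,0,0,0,1,0,0,0,0,0,0],
   [0,0,0,0,0,0,0,0,1,0,0,0,0,0],
   [0,0,0,0,0,0,0,0,0,1,0,0,0,0],
   [0,0,0,0,0,0,0,0,0,0,1,0,0,0],
   [0,0,0,0,0,0,0,0,0,0,0,1,0,0],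
   [0,0,0,0,0,0,0,0,0,0,0,0,1,0],
   [0,0,0,0,0,0,0,0,0,0,0,0,0,1]] := by
  rw [show ([0, 1, 0, 1, 0, 1, 0, 1, 1, 0, 1, 0, 1, 0, 1, 0, 1, 0, 1, 1, 0, 1, 1, 0, 1, 1, 0, 1, 0, 1, 0, 1, 0, 1, 1, 0, 1, 1, 0, 1, 0, 1, 0, 1, 1, 0, 1, 1, 0, 1, 1, 0] : List ℕ) = ([0, 1, 0, 1] : List ℕ) ++ (([0, 1, 0, 1, 1, 0, 1, 0, 1, 0, 1, 0, 1, 0, 1, 1, 0, 1, 1, 0, 1, 1, 0, 1] : List ℕ) ++ (([0, 1, 0, 1, 0, 1, 1, 0, 1, 1, 0, 1, 0, 1, 0, 1, 1, 0, 1, 1, 0, 1, 1, 0] : List ℕ))) from rfl, mT_eq_foldr, List.foldr_append, List.foldr_append,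
    word9_0, word9_1, word9_2]

theorem word10_0 : ([0, 1, 0, 1, 1, 0, 1, 0, 1, 0, 1, 0, 1, 1, 0, 1, 0, 1, 0, 1, 0, 1, 0, 1] : List ℕ).foldr (fun g M => lmul M ([aLit, bLit].getD g lone)) (lone) =
    [[1,0,0,0,0,0,2,0,0,0,1,1,0,0],
   [1,2,0,0,0,0,0,0,0,0,1,1,0,1],
   [0,0,0,1,2,2,0,2,1,0,2,1,1,0],
   [0,0,0,0,0,0,0,0,2,0,1,2,2,0],
   [1,0,0,0,0,0,1,0,0,2,0,0,0,0],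
   [1,0,0,0,2,1,1,0,0,2,2,2,0,0],
   [0,0,0,0,0,0,0,0,0,0,1,1,0,0],
   [2,2,1,0,1,2,1,0,2,2,2,0,2,2],
   [0,0,0,0,0,0,0,0,0,0,0,0,0,1],
   [1,0,0,0,1,0,2,0,0,0,0,2,0,0],
   [0,0,0,0,0,0,0,0,0,0,1,0,0,0],
   [0,0,0,0,0,0,2,0,0,0,2,0,0,0],
   [0,0,0,2,0,0,1,0,2,0,2,0,0,2],
   [0,0,0,0,0,0,0,0,2,0,0,0,0,0]] := by decide +kernel

theorem word10_1 : ([1, 1, 0, 1, 0, 1, 0, 1, 0, 1, 1, 0, 1, 0, 1, 0, 1, 0, 1, 1, 0, 1, 0, 1] : List ℕ).foldr (fun g M => lmul M ([aLit, bLit].getD g lone)) ([[1,0,0,0,0,0,2,0,0,0,1,1,0,0],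
   [1,2,0,0,0,0,0,0,0,0,1,1,0,1],
   [0,0,0,1,2,2,0,2,1,0,2,1,1,0],
   [0,0,0,0,0,0,0,0,2,0,1,2,2,0],
   [1,0,0,0,0,0,1,0,0,2,0,0,0,0],
   [1,0,0,0,2,1,1,0,0,2,2,2,0,0],
   [0,0,0,0,0,0,0,0,0,0,1,1,0,0],
   [2,2,1,0,1,2,1,0,2,2,2,0,2,2],
   [0,0,0,0,0,0,0,0,0,0,0,0,0,1],
   [1,0,0,0,1,0,2,0,0,0,0,2,0,0],
   [0,0,0,0,0,0,0,0,0,0,1,0,0,0],
   [0,0,0,0,0,0,2,0,0,0,2,0,0,0],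
   [0,0,0,2,0,0,1,0,2,0,2,0,0,2],
   [0,0,0,0,0,0,0,0,2,0,0,0,0,0]]) =
    [[1,0,0,0,2,2,2,0,0,2,1,0,0,0],
   [1,2,1,2,1,1,0,2,0,2,2,2,2,2],
   [2,2,0,1,0,0,2,0,1,0,1,2,2,2],
   [0,0,1,2,1,2,2,2,1,1,1,2,1,2],
   [2,0,0,0,2,0,1,0,0,1,0,2,0,0],
   [2,0,0,0,2,0,0,0,0,1,2,1,0,0],
   [1,0,0,0,0,2,1,0,0,1,2,0,0,0],
   [0,1,1,1,0,2,2,2,1,2,1,0,2,1],
   [0,1,0,0,0,0,0,1,2,1,1,2,1,2],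
   [0,0,0,0,0,1,1,0,0,2,1,0,0,0],
   [2,0,0,0,0,1,2,0,0,1,0,2,0,0],
   [1,0,0,0,1,1,1,0,0,2,1,2,0,0],
   [0,0,2,2,0,1,1,0,0,1,2,0,1,2],
   [2,1,2,1,2,2,0,2,1,0,2,1,1,1]] := by decide +kernel

theorem word10_2 : ([0, 1, 0, 1, 0, 1, 0] : List ℕ).foldr (fun g M => lmul M ([aLit, bLit].getD g lone)) ([[1,0,0,0,2,2,2,0,0,2,1,0,0,0],
   [1,2,1,2,1,1,0,2,0,2,2,2,2,2],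
   [2,2,0,1,0,0,2,0,1,0,1,2,2,2],
   [0,0,1,2,1,2,2,2,1,1,1,2,1,2],
   [2,0,0,0,2,0,1,0,0,1,0,2,0,0],
   [2,0,0,0,2,0,0,0,0,1,2,1,0,0],
   [1,0,0,0,0,2,1,0,0,1,2,0,0,0],
   [0,1,1,1,0,2,2,2,1,2,1,0,2,1],
   [0,1,0,0,0,0,0,1,2,1,1,2,1,2],
   [0,0,0,0,0,1,1,0,0,2,1,0,0,0],
   [2,0,0,0,0,1,2,0,0,1,0,2,0,0],
   [1,0,0,0,1,1,1,0,0,2,1,2,0,0],
   [0,0,2,2,0,1,1,0,0,1,2,0,1,2],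
   [2,1,2,1,2,2,0,2,1,0,2,1,1,1]]) =
    [[1,0,0,0,0,0,0,0,0,0,0,0,0,0],
   [0,1,0,0,0,0,0,0,0,0,0,0,2,0],
   [0,0,1,0,0,0,0,2,0,0,0,0,0,0],
   [2,2,0,1,0,0,0,0,0,0,0,0,2,0],
   [0,0,0,0,1,0,0,0,0,2,0,0,0,0],
   [0,0,0,0,0,1,0,0,0,0,0,0,0,0],
   [0,0,0,0,0,0,1,0,0,0,0,1,0,0],
   [0,0,0,0,0,0,0,1,0,0,0,0,0,0],
   [0,0,0,0,0,0,0,0,1,0,0,0,0,1],
   [0,0,0,0,0,0,0,0,0,1,0,0,0,0],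
   [0,0,0,0,0,0,0,0,0,0,1,0,0,0],
   [0,0,0,0,0,0,0,0,0,0,0,1,0,0],
   [0,0,0,0,0,0,0,0,0,0,0,0,1,0],
   [0,0,0,0,0,0,0,0,0,0,0,0,0,1]] := by decide +kernel

theorem word10 : mT [aLit, bLit] [0, 1, 0, 1, 0, 1, 0, 1, 1, 0, 1, 0, 1, 0, 1, 0, 1, 1, 0, 1, 0, 1, 0, 1, 0, 1, 1, 0, 1, 0, 1, 0, 1, 0, 1, 1, 0, 1, 0, 1, 0, 1, 0, 1, 1, 0, 1, 0, 1, 0, 1, 0, 1, 0, 1] = [[1,0,0,0,0,0,0,0,0,0,0,0,0,0],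
   [0,1,0,0,0,0,0,0,0,0,0,0,2,0],
   [0,0,1,0,0,0,0,2,0,0,0,0,0,0],
   [2,2,0,1,0,0,0,0,0,0,0,0,2,0],
   [0,0,0,0,1,0,0,0,0,2,0,0,0,0],
   [0,0,0,0,0,1,0,0,0,0,0,0,0,0],
   [0,0,0,0,0,0,1,0,0,0,0,1,0,0],
   [0,0,0,0,0,0,0,1,0,0,0,0,0,0],
   [0,0,0,0,0,0,0,0,1,0,0,0,0,1],
   [0,0,0,0,0,0,0,0,0,1,0,0,0,0],
   [0,0,0,0,0,0,0,0,0,0,1,0,0,0],
   [0,0,0,0,0,0,0,0,0,0,0,1,0,0],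
   [0,0,0,0,0,0,0,0,0,0,0,0,1,0],
   [0,0,0,0,0,0,0,0,0,0,0,0,0,1]] := by
  rw [show ([0, 1, 0, 1, 0, 1, 0, 1, 1, 0, 1, 0, 1, 0, 1, 0, 1, 1, 0, 1, 0, 1, 0, 1, 0, 1, 1, 0, 1, 0, 1, 0, 1, 0, 1, 1, 0, 1, 0, 1, 0, 1, 0, 1, 1, 0, 1, 0, 1, 0, 1, 0, 1, 0, 1] : List ℕ) = ([0, 1, 0, 1, 0, 1, 0] : List ℕ) ++ (([1, 1, 0, 1, 0, 1, 0, 1, 0, 1, 1, 0, 1, 0, 1, 0, 1, 0, 1, 1, 0, 1, 0, 1] : List ℕ) ++ (([0, 1, 0, 1, 1, 0, 1, 0, 1, 0, 1, 0, 1, 1, 0, 1, 0, 1, 0, 1, 0, 1, 0, 1] : List ℕ))) from rfl, mT_eq_foldr, List.foldr_append, List.foldr_append,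
    word10_0, word10_1, word10_2]

theorem word11_0 : ([0, 1, 1, 0, 1, 1, 0, 1, 0, 1, 0, 1, 1, 0, 1, 0, 1, 0, 1, 1, 0, 1, 1, 0] : List ℕ).foldr (fun g M => lmul M ([aLit, bLit].getD g lone)) (lone) =
    [[2,0,0,0,2,0,0,0,0,0,2,0,0,0],
   [0,0,2,0,1,1,0,0,0,2,1,2,1,2],
   [0,2,2,2,1,1,0,2,2,2,1,2,2,0],
   [1,0,0,1,1,2,2,1,2,1,0,1,1,1],
   [1,0,0,0,2,2,1,0,0,0,2,2,0,0],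
   [0,0,0,0,1,2,0,0,0,2,1,1,0,0],
   [0,0,0,0,1,1,1,0,0,1,0,2,0,0],
   [1,2,1,0,0,0,0,2,0,0,0,0,1,2],
   [2,1,1,2,1,2,2,2,2,1,0,1,0,1],
   [0,0,0,0,0,2,0,0,0,0,0,1,0,0],
   [1,0,0,0,2,1,0,0,0,0,2,0,0,0],
   [0,0,0,0,0,1,0,0,0,1,0,2,0,0],
   [0,0,0,0,0,0,0,1,0,0,0,0,2,0],
   [2,1,2,0,0,2,0,2,0,1,0,1,0,1]] := by decide +kernel

theorem word11_1 : ([1, 1, 0, 1, 1, 0, 1, 0, 1, 0, 1, 1, 0, 1, 0, 1, 0, 1, 1, 0, 1, 1, 0, 1] : List ℕ).foldr (fun g M => lmul M ([aLit, bLit].getD g lone)) ([[2,0,0,0,2,0,0,0,0,0,2,0,0,0],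
   [0,0,2,0,1,1,0,0,0,2,1,2,1,2],
   [0,2,2,2,1,1,0,2,2,2,1,2,2,0],
   [1,0,0,1,1,2,2,1,2,1,0,1,1,1],
   [1,0,0,0,2,2,1,0,0,0,2,2,0,0],
   [0,0,0,0,1,2,0,0,0,2,1,1,0,0],
   [0,0,0,0,1,1,1,0,0,1,0,2,0,0],
   [1,2,1,0,0,0,0,2,0,0,0,0,1,2],
   [2,1,1,2,1,2,2,2,2,1,0,1,0,1],
   [0,0,0,0,0,2,0,0,0,0,0,1,0,0],
   [1,0,0,0,2,1,0,0,0,0,2,0,0,0],
   [0,0,0,0,0,1,0,0,0,1,0,2,0,0],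
   [0,0,0,0,0,0,0,1,0,0,0,0,2,0],
   [2,1,2,0,0,2,0,2,0,1,0,1,0,1]]) =
    [[2,0,0,0,1,0,0,0,0,1,2,0,0,0],
   [1,0,2,2,2,0,0,0,1,2,1,0,0,2],
   [1,0,1,2,0,0,0,1,1,0,0,0,2,1],
   [1,2,1,2,0,0,0,0,2,0,0,0,0,2],
   [0,0,0,0,0,2,1,0,0,0,0,1,0,0],
   [0,0,0,0,1,0,0,0,0,1,2,0,0,0],
   [0,0,0,0,1,1,2,0,0,0,1,2,0,0],
   [2,1,1,0,0,0,0,1,0,0,0,0,1,2],
   [2,0,2,0,2,1,2,2,1,0,2,2,1,2],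
   [0,0,0,0,0,2,0,0,0,0,0,2,0,0],
   [2,0,0,0,2,0,1,0,0,2,1,0,0,0],
   [0,0,0,0,2,2,0,0,0,0,1,2,0,0],
   [1,2,2,0,0,0,0,0,0,0,0,0,0,1],
   [2,1,1,1,1,2,0,1,2,0,2,2,1,2]] := by decide +kernel

theorem word11_2 : ([1, 0] : List ℕ).foldr (fun g M => lmul M ([aLit, bLit].getD g lone)) ([[2,0,0,0,1,0,0,0,0,1,2,0,0,0],
   [1,0,2,2,2,0,0,0,1,2,1,0,0,2],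
   [1,0,1,2,0,0,0,1,1,0,0,0,2,1],
   [1,2,1,2,0,0,0,0,2,0,0,0,0,2],
   [0,0,0,0,0,2,1,0,0,0,0,1,0,0],
   [0,0,0,0,1,0,0,0,0,1,2,0,0,0],
   [0,0,0,0,1,1,2,0,0,0,1,2,0,0],
   [2,1,1,0,0,0,0,1,0,0,0,0,1,2],
   [2,0,2,0,2,1,2,2,1,0,2,2,1,2],
   [0,0,0,0,0,2,0,0,0,0,0,2,0,0],
   [2,0,0,0,2,0,1,0,0,2,1,0,0,0],
   [0,0,0,0,2,2,0,0,0,0,1,2,0,0],
   [1,2,2,0,0,0,0,0,0,0,0,0,0,1],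
   [2,1,1,1,1,2,0,1,2,0,2,2,1,2]]) =
    [[1,0,0,0,0,0,0,0,0,0,0,0,0,0],
   [0,1,0,0,0,0,0,0,0,0,0,0,0,1],
   [2,1,1,0,0,0,0,0,0,0,0,0,0,2],
   [0,0,0,1,0,0,0,0,2,0,0,0,0,0],
   [0,0,0,0,1,0,0,0,0,0,2,0,0,0],
   [0,0,0,0,0,1,0,0,0,0,0,1,0,0],
   [0,0,0,0,0,0,1,0,0,0,0,0,0,0],
   [0,0,0,0,0,0,0,1,0,0,0,0,1,0],
   [0,0,0,0,0,0,0,0,1,0,0,0,0,0],
   [0,0,0,0,0,0,0,0,0,1,0,0,0,0],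
   [0,0,0,0,0,0,0,0,0,0,1,0,0,0],
   [0,0,0,0,0,0,0,0,0,0,0,1,0,0],
   [0,0,0,0,0,0,0,0,0,0,0,0,1,0],
   [0,0,0,0,0,0,0,0,0,0,0,0,0,1]] := by decide +kernel

theorem word11 : mT [aLit, bLit] [1, 0, 1, 1, 0, 1, 1, 0, 1, 0, 1, 0, 1, 1, 0, 1, 0, 1, 0, 1, 1, 0, 1, 1, 0, 1, 0, 1, 1, 0, 1, 1, 0, 1, 0, 1, 0, 1, 1, 0, 1, 0, 1, 0, 1, 1, 0, 1, 1, 0] = [[1,0,0,0,0,0,0,0,0,0,0,0,0,0],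
   [0,1,0,0,0,0,0,0,0,0,0,0,0,1],
   [2,1,1,0,0,0,0,0,0,0,0,0,0,2],
   [0,0,0,1,0,0,0,0,2,0,0,0,0,0],
   [0,0,0,0,1,0,0,0,0,0,2,0,0,0],
   [0,0,0,0,0,1,0,0,0,0,0,1,0,0],
   [0,0,0,0,0,0,1,0,0,0,0,0,0,0],
   [0,0,0,0,0,0,0,1,0,0,0,0,1,0],
   [0,0,0,0,0,0,0,0,1,0,0,0,0,0],
   [0,0,0,0,0,0,0,0,0,1,0,0,0,0],
   [0,0,0,0,0,0,0,0,0,0,1,0,0,0],
   [0,0,0,0,0,0,0,0,0,0,0,1,0,0],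
   [0,0,0,0,0,0,0,0,0,0,0,0,1,0],
   [0,0,0,0,0,0,0,0,0,0,0,0,0,1]] := by
  rw [show ([1, 0, 1, 1, 0, 1, 1, 0, 1, 0, 1, 0, 1, 1, 0, 1, 0, 1, 0, 1, 1, 0, 1, 1, 0, 1, 0, 1, 1, 0, 1, 1, 0, 1, 0, 1, 0, 1, 1, 0, 1, 0, 1, 0, 1, 1, 0, 1, 1, 0] : List ℕ) = ([1, 0] : List ℕ) ++ (([1, 1, 0, 1, 1, 0, 1, 0, 1, 0, 1, 1, 0, 1, 0, 1, 0, 1, 1, 0, 1, 1, 0, 1] : List ℕ) ++ (([0, 1, 1, 0, 1, 1, 0, 1, 0, 1, 0, 1, 1, 0, 1, 0, 1, 0, 1, 1, 0, 1, 1, 0] : List ℕ))) from rfl, mT_eq_foldr, List.foldr_append, List.foldr_append,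
    word11_0, word11_1, word11_2]

theorem root_eq : ∀ {r : ℕ}, r < 12 → ∃ w : List ℕ, ev ga gb w = el r
  | 0, h => ⟨[0, 1, 0, 1, 0, 1, 0, 1, 1, 0, 1, 0, 1, 0, 1, 1, 0, 1, 1, 0, 1, 0, 1, 1, 0, 1, 0, 1, 0, 1, 0, 1, 0, 1, 0, 1, 0, 1, 1, 0, 1, 0, 1, 0, 1, 1, 0, 1, 0, 1, 0, 1, 1, 0, 1, 1, 0, 1, 1], eq_el_of_lit h (ev_spec _ (by decide)) (word0.trans (by decide +kernel))⟩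
  | 1, h => ⟨[1, 1, 0, 1, 1, 0, 1, 0, 1, 0, 1, 1, 0, 1, 1, 0, 1, 0, 1, 0, 1, 1, 0, 1, 0, 1, 0, 1, 1, 0, 1, 1, 0, 1, 0, 1, 1, 0, 1, 1, 0, 1, 0, 1, 0, 1, 1, 0, 1, 0, 1, 0, 1, 1, 0, 1, 0, 1, 0, 1], eq_el_of_lit h (ev_spec _ (by decide)) (word1.trans (by decide +kernel))⟩
  | 2, h => ⟨[0, 1, 0, 1, 0, 1, 1, 0, 1, 1, 0, 1, 0, 1, 1, 0, 1, 1, 0, 1, 0, 1, 0, 1, 1, 0, 1, 0, 1, 0, 1, 1, 0, 1, 1, 0, 1, 0, 1, 1, 0, 1, 0, 1, 0, 1, 1, 0, 1, 1, 0, 1, 0, 1, 1], eq_el_of_lit h (ev_spec _ (by decide)) (word2.trans (by decide +kernel))⟩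
  | 3, h => ⟨[0, 1, 0, 1, 1, 0, 1, 0, 1, 0, 1, 0, 1, 1, 0, 1, 1, 0, 1, 0, 1, 0, 1, 1, 0, 1, 0, 1, 0, 1, 0, 1, 0, 1, 1, 0, 1, 0, 1, 0, 1, 0, 1, 0, 1, 1, 0, 1, 0, 1, 0, 1, 0, 1, 1], eq_el_of_lit h (ev_spec _ (by decide)) (word3.trans (by decide +kernel))⟩
  | 4, h => ⟨[1, 1, 0, 1, 1, 0, 1, 0, 1, 0, 1, 1, 0, 1, 1, 0, 1, 0, 1, 0, 1, 0, 1, 1, 0, 1, 1, 0, 1, 1, 0, 1, 0, 1, 0, 1, 0, 1, 0, 1, 1, 0, 1, 0, 1], eq_el_of_lit h (ev_spec _ (by decide)) (word4.trans (by decide +kernel))⟩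
  | 5, h => ⟨[0, 1, 0, 1, 0, 1, 0, 1, 0, 1, 0, 1, 0, 1, 1, 0, 1, 0, 1, 0, 1, 1, 0, 1, 0, 1, 0, 1, 0, 1, 0, 1, 1, 0, 1, 0, 1, 0, 1, 1, 0, 1, 1, 0, 1, 1, 0, 1, 1, 0, 1, 0, 1, 0, 1, 0, 1, 1, 0, 1, 1], eq_el_of_lit h (ev_spec _ (by decide)) (word5.trans (by decide +kernel))⟩
  | 6, h => ⟨[0, 1, 0, 1, 0, 1, 0, 1, 0, 1, 1, 0, 1, 0, 1, 0, 1, 0, 1, 0, 1, 0, 1, 1, 0, 1, 0, 1, 0, 1, 0, 1, 0, 1, 1, 0, 1, 0, 1, 0, 1, 0, 1, 0, 1, 0, 1, 1], eq_el_of_lit h (ev_spec _ (by decide)) (word6.trans (by decide +kernel))⟩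
  | 7, h => ⟨[1, 0, 1, 0, 1, 0, 1, 0, 1, 0, 1, 0, 1, 1, 0, 1, 1, 0, 1, 1, 0, 1, 0, 1, 0, 1, 1, 0, 1, 1, 0, 1, 1, 0, 1, 0, 1, 0, 1, 0, 1, 0, 1, 0], eq_el_of_lit h (ev_spec _ (by decide)) (word7.trans (by decide +kernel))⟩
  | 8, h => ⟨[1, 1, 0, 1, 0, 1, 0, 1, 0, 1, 1, 0, 1, 1, 0, 1, 1, 0, 1, 0, 1, 0, 1, 0, 1, 1, 0, 1, 1, 0], eq_el_of_lit h (ev_spec _ (by decide)) (word8.trans (by decide +kernel))⟩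
  | 9, h => ⟨[0, 1, 0, 1, 0, 1, 0, 1, 1, 0, 1, 0, 1, 0, 1, 0, 1, 0, 1, 1, 0, 1, 1, 0, 1, 1, 0, 1, 0, 1, 0, 1, 0, 1, 1, 0, 1, 1, 0, 1, 0, 1, 0, 1, 1, 0, 1, 1, 0, 1, 1, 0], eq_el_of_lit h (ev_spec _ (by decide)) (word9.trans (by decide +kernel))⟩
  | 10, h => ⟨[0, 1, 0, 1, 0, 1, 0, 1, 1, 0, 1, 0, 1, 0, 1, 0, 1, 1, 0, 1, 0, 1, 0, 1, 0, 1, 1, 0, 1, 0, 1, 0, 1, 0, 1, 1, 0, 1, 0, 1, 0, 1, 0, 1, 1, 0, 1, 0, 1, 0, 1, 0, 1, 0, 1], eq_el_of_lit h (ev_spec _ (by decide)) (word10.trans (by decide +kernel))⟩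
  | 11, h => ⟨[1, 0, 1, 1, 0, 1, 1, 0, 1, 0, 1, 0, 1, 1, 0, 1, 0, 1, 0, 1, 1, 0, 1, 1, 0, 1, 0, 1, 1, 0, 1, 1, 0, 1, 0, 1, 0, 1, 1, 0, 1, 0, 1, 0, 1, 1, 0, 1, 1, 0], eq_el_of_lit h (ev_spec _ (by decide)) (word11.trans (by decide +kernel))⟩
  | _ + 12, h => absurd h (by omega)

theorem generates : Subgroup.closure {ga, gb} = (⊤ : Subgroup ↥(chevG2.group (ZMod 3))) := by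
  have hev : ∀ w : List ℕ, ev ga gb w ∈ Subgroup.closure {ga, gb} := by
    intro w
    induction w with
    | nil => exact one_mem _
    | cons c w ih =>
      rw [ev_cons]
      refine mul_mem ?_ ih
      unfold letter
      split <;> exact Subgroup.subset_closure (by simp)
  have hle : chevG2.group (ZMod 3) ≤
      (Subgroup.closure {ga, gb}).map (chevG2.group (ZMod 3)).subtype := by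
    refine goodG2.group_le fun r hr t => ?_
    have h2 : goodG2.xg r 2 ∈
        (Subgroup.closure {ga, gb}).map (chevG2.group (ZMod 3)).subtype :=
      ⟨el r, (root_eq hr).choose_spec ▸ hev _, rfl⟩
    fin_cases t
    · exact goodG2.xg_zero (F := ZMod 3) r ▸ one_mem _
    · have := mul_mem h2 h2
      rwa [goodG2.xg_add, show (2 : ZMod 3) + 2 = 1 from by decide] at this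
    · exact h2
  refine eq_top_iff.mpr fun x _ => ?_
  obtain ⟨y, hy, e⟩ := hle x.2
  exact Subtype.ext e ▸ hy

end Cfsg.Agent.H12.CExt.G23
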