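import Cfsg.Agent.H12.CentralExt.G23Base

/-!
The relators of the G2(3) certificate hold for the two generators.
-/

set_option autoImplicit false
set_option maxRecDepth 100000

namespace Cfsg.Agent.H12.CExt.G23

open Cfsg Cfsg.Lie Cfsg.Agent.H46 Cfsg.Agent.H69.G2Three

theorem rel0_0 : ([0, 0] : List ℕ).foldr (fun g M => lmul M ([aLit, bLit].getD g lone)) (lone) =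
    lone := by decide +kernel

theorem rel0 : mT [aLit, bLit] [0, 0] = lone := by
  rw [show ([0, 0] : List ℕ) = ([0, 0] : List ℕ) from rfl, mT_eq_foldr,
    rel0_0]

theorem rel1_0 : ([1, 1, 1] : List ℕ).foldr (fun g M => lmul M ([aLit, bLit].getD g lone)) (lone) =
    lone := by decide +kernel

theorem rel1 : mT [aLit, bLit] [1, 1, 1] = lone := by
  rw [show ([1, 1, 1] : List ℕ) = ([1, 1, 1] : List ℕ) from rfl, mT_eq_foldr,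
    rel1_0]

theorem rel2_0 : ([0, 1, 0, 1, 0, 1, 0, 1, 0, 1, 0, 1, 0, 1, 0, 1, 0, 1, 0, 1, 0, 1, 0, 1] : List ℕ).foldr (fun g M => lmul M ([aLit, bLit].getD g lone)) (lone) =
    [[2,0,0,0,0,1,0,0,0,1,0,1,0,0],
   [0,1,1,0,2,0,1,1,1,0,2,1,0,2],
   [1,0,1,0,2,1,1,2,1,0,2,2,1,1],
   [2,1,1,2,2,1,0,2,1,0,1,1,2,2],
   [1,0,0,0,2,0,2,0,0,1,1,0,0,0],
   [2,0,0,0,0,2,0,0,0,2,1,1,0,0],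
   [0,0,0,0,2,2,0,0,0,0,1,2,0,0],
   [0,0,0,0,0,0,0,2,0,1,0,1,0,1],
   [1,2,2,2,2,1,0,2,1,0,1,1,2,1],
   [0,0,0,0,0,0,0,0,0,1,0,2,0,0],
   [1,0,0,0,2,1,2,0,0,1,1,1,0,0],
   [1,0,0,0,0,1,0,0,0,0,2,2,0,0],
   [0,0,0,0,0,0,0,1,0,2,0,2,2,2],
   [2,1,2,0,1,0,2,1,2,2,1,2,2,0]] := by decide +kernel

theorem rel2_1 : ([0, 1] : List ℕ).foldr (fun g M => lmul M ([aLit, bLit].getD g lone)) ([[2,0,0,0,0,1,0,0,0,1,0,1,0,0],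
   [0,1,1,0,2,0,1,1,1,0,2,1,0,2],
   [1,0,1,0,2,1,1,2,1,0,2,2,1,1],
   [2,1,1,2,2,1,0,2,1,0,1,1,2,2],
   [1,0,0,0,2,0,2,0,0,1,1,0,0,0],
   [2,0,0,0,0,2,0,0,0,2,1,1,0,0],
   [0,0,0,0,2,2,0,0,0,0,1,2,0,0],
   [0,0,0,0,0,0,0,2,0,1,0,1,0,1],
   [1,2,2,2,2,1,0,2,1,0,1,1,2,1],
   [0,0,0,0,0,0,0,0,0,1,0,2,0,0],
   [1,0,0,0,2,1,2,0,0,1,1,1,0,0],
   [1,0,0,0,0,1,0,0,0,0,2,2,0,0],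
   [0,0,0,0,0,0,0,1,0,2,0,2,2,2],
   [2,1,2,0,1,0,2,1,2,2,1,2,2,0]]) =
    lone := by decide +kernel

theorem rel2 : mT [aLit, bLit] [0, 1, 0, 1, 0, 1, 0, 1, 0, 1, 0, 1, 0, 1, 0, 1, 0, 1, 0, 1, 0, 1, 0, 1, 0, 1] = lone := by
  rw [show ([0, 1, 0, 1, 0, 1, 0, 1, 0, 1, 0, 1, 0, 1, 0, 1, 0, 1, 0, 1, 0, 1, 0, 1, 0, 1] : List ℕ) = ([0, 1] : List ℕ) ++ (([0, 1, 0, 1, 0, 1, 0, 1, 0, 1, 0, 1, 0, 1, 0, 1, 0, 1, 0, 1, 0, 1, 0, 1] : List ℕ)) from rfl, mT_eq_foldr, List.foldr_append,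
    rel2_0, rel2_1]

theorem rel3_0 : ([0, 1, 1, 0, 1, 0, 1, 0, 1, 0, 1, 1, 1, 0, 1, 1, 0, 1, 0, 1, 0, 1, 0, 1] : List ℕ).foldr (fun g M => lmul M ([aLit, bLit].getD g lone)) (lone) =
    [[2,0,0,0,0,2,1,0,0,1,1,0,0,0],
   [0,0,2,2,2,0,1,2,1,1,0,1,0,1],
   [1,1,0,1,0,0,2,0,2,0,1,1,2,2],
   [1,0,2,1,2,1,1,2,0,0,1,1,2,2],
   [1,0,0,0,1,0,2,0,0,1,1,0,0,0],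
   [1,0,0,0,1,0,0,0,0,1,2,2,0,0],
   [1,0,0,0,0,2,1,0,0,1,2,2,0,0],
   [1,2,2,0,0,1,0,2,0,1,0,1,0,1],
   [1,2,2,1,2,1,1,1,1,2,0,2,0,2],
   [2,0,0,0,2,1,0,0,0,1,1,2,0,0],
   [1,0,0,0,1,0,2,0,0,2,2,1,0,0],
   [0,0,0,0,2,2,1,0,0,2,2,0,0,0],
   [1,1,2,2,1,2,1,0,1,1,1,0,2,2],
   [2,0,2,0,2,1,2,1,1,2,2,0,1,1]] := by decide +kernel

theorem rel3_1 : ([0, 1, 0, 1, 1, 0, 1, 0, 1, 1, 0, 1, 0, 1, 0, 1, 0, 1, 1, 0, 1, 1, 1, 1] : List ℕ).foldr (fun g M => lmul M ([aLit, bLit].getD g lone)) ([[2,0,0,0,0,2,1,0,0,1,1,0,0,0],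
   [0,0,2,2,2,0,1,2,1,1,0,1,0,1],
   [1,1,0,1,0,0,2,0,2,0,1,1,2,2],
   [1,0,2,1,2,1,1,2,0,0,1,1,2,2],
   [1,0,0,0,1,0,2,0,0,1,1,0,0,0],
   [1,0,0,0,1,0,0,0,0,1,2,2,0,0],
   [1,0,0,0,0,2,1,0,0,1,2,2,0,0],
   [1,2,2,0,0,1,0,2,0,1,0,1,0,1],
   [1,2,2,1,2,1,1,1,1,2,0,2,0,2],
   [2,0,0,0,2,1,0,0,0,1,1,2,0,0],
   [1,0,0,0,1,0,2,0,0,2,2,1,0,0],
   [0,0,0,0,2,2,1,0,0,2,2,0,0,0],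
   [1,1,2,2,1,2,1,0,1,1,1,0,2,2],
   [2,0,2,0,2,1,2,1,1,2,2,0,1,1]]) =
    [[2,0,0,0,0,1,0,0,0,0,0,1,0,0],
   [0,2,2,1,1,1,2,0,1,0,2,1,1,1],
   [2,0,2,1,1,0,2,2,1,1,2,1,1,0],
   [2,1,1,0,2,0,1,1,1,2,1,2,1,1],
   [0,0,0,0,2,0,2,0,0,2,1,1,0,0],
   [1,0,0,0,1,1,0,0,0,1,1,1,0,0],
   [2,0,0,0,0,2,0,0,0,0,1,2,0,0],
   [2,1,2,0,0,1,0,1,0,1,0,2,0,1],
   [2,1,1,0,2,0,1,2,1,1,1,1,2,0],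
   [0,0,0,0,0,1,0,0,0,2,0,2,0,0],
   [0,0,0,0,2,0,2,0,0,1,1,2,0,0],
   [2,0,0,0,2,2,0,0,0,1,2,2,0,0],
   [1,2,1,0,0,2,0,0,0,2,0,1,2,2],
   [0,2,1,2,2,0,1,2,2,1,1,1,0,1]] := by decide +kernel

theorem rel3_2 : ([0, 1, 1] : List ℕ).foldr (fun g M => lmul M ([aLit, bLit].getD g lone)) ([[2,0,0,0,0,1,0,0,0,0,0,1,0,0],
   [0,2,2,1,1,1,2,0,1,0,2,1,1,1],
   [2,0,2,1,1,0,2,2,1,1,2,1,1,0],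
   [2,1,1,0,2,0,1,1,1,2,1,2,1,1],
   [0,0,0,0,2,0,2,0,0,2,1,1,0,0],
   [1,0,0,0,1,1,0,0,0,1,1,1,0,0],
   [2,0,0,0,0,2,0,0,0,0,1,2,0,0],
   [2,1,2,0,0,1,0,1,0,1,0,2,0,1],
   [2,1,1,0,2,0,1,2,1,1,1,1,2,0],
   [0,0,0,0,0,1,0,0,0,2,0,2,0,0],
   [0,0,0,0,2,0,2,0,0,1,1,2,0,0],
   [2,0,0,0,2,2,0,0,0,1,2,2,0,0],
   [1,2,1,0,0,2,0,0,0,2,0,1,2,2],
   [0,2,1,2,2,0,1,2,2,1,1,1,0,1]]) =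
    lone := by decide +kernel

theorem rel3 : mT [aLit, bLit] [0, 1, 1, 0, 1, 0, 1, 1, 0, 1, 0, 1, 1, 0, 1, 0, 1, 0, 1, 0, 1, 1, 0, 1, 1, 1, 1, 0, 1, 1, 0, 1, 0, 1, 0, 1, 0, 1, 1, 1, 0, 1, 1, 0, 1, 0, 1, 0, 1, 0, 1] = lone := by
  rw [show ([0, 1, 1, 0, 1, 0, 1, 1, 0, 1, 0, 1, 1, 0, 1, 0, 1, 0, 1, 0, 1, 1, 0, 1, 1, 1, 1, 0, 1, 1, 0, 1, 0, 1, 0, 1, 0, 1, 1, 1, 0, 1, 1, 0, 1, 0, 1, 0, 1, 0, 1] : List ℕ) = ([0, 1, 1] : List ℕ) ++ (([0, 1, 0, 1, 1, 0, 1, 0, 1, 1, 0, 1, 0, 1, 0, 1, 0, 1, 1, 0, 1, 1, 1, 1] : List ℕ) ++ (([0, 1, 1, 0, 1, 0, 1, 0, 1, 0, 1, 1, 1, 0, 1, 1, 0, 1, 0, 1, 0, 1, 0, 1] : List ℕ))) from rfl, mT_eq_foldr, List.foldr_append, List.foldr_append,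
    rel3_0, rel3_1, rel3_2]

theorem rel4_0 : ([0, 1, 1, 0, 1, 0, 1, 0, 1, 0, 1, 1, 1, 0, 1, 1, 0, 1, 0, 1, 0, 1, 0, 1] : List ℕ).foldr (fun g M => lmul M ([aLit, bLit].getD g lone)) (lone) =
    [[2,0,0,0,0,2,1,0,0,1,1,0,0,0],
   [0,0,2,2,2,0,1,2,1,1,0,1,0,1],
   [1,1,0,1,0,0,2,0,2,0,1,1,2,2],
   [1,0,2,1,2,1,1,2,0,0,1,1,2,2],
   [1,0,0,0,1,0,2,0,0,1,1,0,0,0],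
   [1,0,0,0,1,0,0,0,0,1,2,2,0,0],
   [1,0,0,0,0,2,1,0,0,1,2,2,0,0],
   [1,2,2,0,0,1,0,2,0,1,0,1,0,1],
   [1,2,2,1,2,1,1,1,1,2,0,2,0,2],
   [2,0,0,0,2,1,0,0,0,1,1,2,0,0],
   [1,0,0,0,1,0,2,0,0,2,2,1,0,0],
   [0,0,0,0,2,2,1,0,0,2,2,0,0,0],
   [1,1,2,2,1,2,1,0,1,1,1,0,2,2],
   [2,0,2,0,2,1,2,1,1,2,2,0,1,1]] := by decide +kernel

theorem rel4_1 : ([1, 0, 1, 0, 1, 0, 1, 0, 1, 1, 1, 0, 1, 1, 0, 1, 0, 1, 0, 1, 0, 1, 1, 1] : List ℕ).foldr (fun g M => lmul M ([aLit, bLit].getD g lone)) ([[2,0,0,0,0,2,1,0,0,1,1,0,0,0],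
   [0,0,2,2,2,0,1,2,1,1,0,1,0,1],
   [1,1,0,1,0,0,2,0,2,0,1,1,2,2],
   [1,0,2,1,2,1,1,2,0,0,1,1,2,2],
   [1,0,0,0,1,0,2,0,0,1,1,0,0,0],
   [1,0,0,0,1,0,0,0,0,1,2,2,0,0],
   [1,0,0,0,0,2,1,0,0,1,2,2,0,0],
   [1,2,2,0,0,1,0,2,0,1,0,1,0,1],
   [1,2,2,1,2,1,1,1,1,2,0,2,0,2],
   [2,0,0,0,2,1,0,0,0,1,1,2,0,0],
   [1,0,0,0,1,0,2,0,0,2,2,1,0,0],
   [0,0,0,0,2,2,1,0,0,2,2,0,0,0],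
   [1,1,2,2,1,2,1,0,1,1,1,0,2,2],
   [2,0,2,0,2,1,2,1,1,2,2,0,1,1]]) =
    [[2,0,0,0,2,1,0,0,0,0,1,1,0,0],
   [1,1,1,1,1,1,1,0,2,0,0,0,2,1],
   [2,1,1,2,1,2,2,2,2,1,0,1,0,1],
   [1,0,1,0,1,2,1,2,2,1,1,0,2,2],
   [1,0,0,0,1,0,2,0,0,2,2,1,0,0],
   [2,0,0,0,0,1,2,0,0,2,1,1,0,0],
   [1,0,0,0,2,1,1,0,0,0,0,1,0,0],
   [2,2,1,2,1,2,2,0,1,2,1,0,2,1],
   [0,2,1,1,0,1,1,1,2,2,1,0,1,2],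
   [2,0,0,0,1,2,0,0,0,1,2,1,0,0],
   [2,0,0,0,1,0,0,0,0,1,2,2,0,0],
   [0,0,0,0,0,2,0,0,0,2,0,2,0,0],
   [1,2,2,0,0,2,0,1,0,1,0,2,0,1],
   [1,2,2,0,0,2,0,2,0,1,0,2,1,1]] := by decide +kernel

theorem rel4_2 : ([1, 0, 1, 0, 1, 0, 1, 1, 1, 0, 1, 1, 0, 1, 0, 1, 0, 1, 0, 1, 1, 1, 0, 1] : List ℕ).foldr (fun g M => lmul M ([aLit, bLit].getD g lone)) ([[2,0,0,0,2,1,0,0,0,0,1,1,0,0],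
   [1,1,1,1,1,1,1,0,2,0,0,0,2,1],
   [2,1,1,2,1,2,2,2,2,1,0,1,0,1],
   [1,0,1,0,1,2,1,2,2,1,1,0,2,2],
   [1,0,0,0,1,0,2,0,0,2,2,1,0,0],
   [2,0,0,0,0,1,2,0,0,2,1,1,0,0],
   [1,0,0,0,2,1,1,0,0,0,0,1,0,0],
   [2,2,1,2,1,2,2,0,1,2,1,0,2,1],
   [0,2,1,1,0,1,1,1,2,2,1,0,1,2],
   [2,0,0,0,1,2,0,0,0,1,2,1,0,0],
   [2,0,0,0,1,0,0,0,0,1,2,2,0,0],
   [0,0,0,0,0,2,0,0,0,2,0,2,0,0],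
   [1,2,2,0,0,2,0,1,0,1,0,2,0,1],
   [1,2,2,0,0,2,0,2,0,1,0,2,1,1]]) =
    [[2,0,0,0,1,1,0,0,0,1,0,0,0,0],
   [1,1,1,1,1,0,2,0,2,1,0,1,2,1],
   [0,1,2,2,0,2,2,2,1,1,2,0,2,1],
   [2,0,2,0,2,1,2,1,1,2,2,0,1,1],
   [1,0,0,0,2,1,1,0,0,0,0,1,0,0],
   [1,0,0,0,2,2,2,0,0,1,2,1,0,0],
   [1,0,0,0,1,0,2,0,0,2,2,1,0,0],
   [0,1,2,0,1,1,2,0,2,1,0,1,1,1],
   [1,2,2,1,2,1,1,1,1,2,0,2,0,2],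
   [0,0,0,0,2,1,2,0,0,2,0,1,0,0],
   [0,0,0,0,1,1,1,0,0,1,0,2,0,0],
   [0,0,0,0,2,0,0,0,0,2,0,0,0,0],
   [2,2,1,2,0,0,0,1,0,0,0,0,1,0],
   [1,1,1,1,0,0,0,1,0,0,0,0,2,0]] := by decide +kernel

theorem rel4_3 : ([1, 0, 1, 1, 0, 1, 0, 1, 0, 1, 0, 1, 0, 1, 0, 1, 1, 0, 1, 1, 0, 1, 1, 0] : List ℕ).foldr (fun g M => lmul M ([aLit, bLit].getD g lone)) ([[2,0,0,0,1,1,0,0,0,1,0,0,0,0],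
   [1,1,1,1,1,0,2,0,2,1,0,1,2,1],
   [0,1,2,2,0,2,2,2,1,1,2,0,2,1],
   [2,0,2,0,2,1,2,1,1,2,2,0,1,1],
   [1,0,0,0,2,1,1,0,0,0,0,1,0,0],
   [1,0,0,0,2,2,2,0,0,1,2,1,0,0],
   [1,0,0,0,1,0,2,0,0,2,2,1,0,0],
   [0,1,2,0,1,1,2,0,2,1,0,1,1,1],
   [1,2,2,1,2,1,1,1,1,2,0,2,0,2],
   [0,0,0,0,2,1,2,0,0,2,0,1,0,0],
   [0,0,0,0,1,1,1,0,0,1,0,2,0,0],
   [0,0,0,0,2,0,0,0,0,2,0,0,0,0],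
   [2,2,1,2,0,0,0,1,0,0,0,0,1,0],
   [1,1,1,1,0,0,0,1,0,0,0,0,2,0]]) =
    [[2,0,0,0,1,0,1,0,0,1,2,2,0,0],
   [2,1,0,1,1,2,2,1,2,2,2,1,1,2],
   [1,0,2,2,0,1,1,2,2,1,2,1,0,1],
   [0,1,1,2,0,2,1,1,2,2,2,0,2,2],
   [2,0,0,0,2,0,0,0,0,2,2,1,0,0],
   [1,0,0,0,1,1,1,0,0,0,2,0,0,0],
   [2,0,0,0,2,2,1,0,0,0,0,1,0,0],
   [1,0,0,2,2,1,2,2,0,1,2,1,0,1],
   [2,2,0,1,1,2,0,1,0,2,0,0,2,0],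
   [1,0,0,0,2,2,0,0,0,2,0,1,0,0],
   [1,0,0,0,2,2,2,0,0,2,0,2,0,0],
   [0,0,0,0,1,0,2,0,0,1,1,1,0,0],
   [2,0,1,1,1,0,1,1,0,1,1,2,1,2],
   [0,1,1,2,1,0,1,1,1,1,1,2,0,1]] := by decide +kernel

theorem rel4_4 : ([1, 1, 0, 1, 0, 1, 0, 1, 0, 1, 1, 1, 0, 1, 1, 0, 1, 0, 1, 0, 1, 0, 1, 1] : List ℕ).foldr (fun g M => lmul M ([aLit, bLit].getD g lone)) ([[2,0,0,0,1,0,1,0,0,1,2,2,0,0],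
   [2,1,0,1,1,2,2,1,2,2,2,1,1,2],
   [1,0,2,2,0,1,1,2,2,1,2,1,0,1],
   [0,1,1,2,0,2,1,1,2,2,2,0,2,2],
   [2,0,0,0,2,0,0,0,0,2,2,1,0,0],
   [1,0,0,0,1,1,1,0,0,0,2,0,0,0],
   [2,0,0,0,2,2,1,0,0,0,0,1,0,0],
   [1,0,0,2,2,1,2,2,0,1,2,1,0,1],
   [2,2,0,1,1,2,0,1,0,2,0,0,2,0],
   [1,0,0,0,2,2,0,0,0,2,0,1,0,0],
   [1,0,0,0,2,2,2,0,0,2,0,2,0,0],
   [0,0,0,0,1,0,2,0,0,1,1,1,0,0],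
   [2,0,1,1,1,0,1,1,0,1,1,2,1,2],
   [0,1,1,2,1,0,1,1,1,1,1,2,0,1]]) =
    [[0,0,0,0,0,2,1,0,0,2,1,2,0,0],
   [2,2,2,0,0,1,0,2,2,0,2,1,1,1],
   [2,2,0,2,0,0,2,0,0,0,2,1,1,1],
   [1,0,1,0,2,1,1,1,1,1,2,0,1,2],
   [2,0,0,0,1,0,1,0,0,1,2,1,0,0],
   [1,0,0,0,2,0,1,0,0,2,2,0,0,0],
   [0,0,0,0,1,1,1,0,0,2,1,0,0,0],
   [0,2,2,2,2,2,1,2,1,0,0,0,0,0],
   [1,2,0,2,2,1,1,2,0,1,2,0,1,2],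
   [2,0,0,0,2,2,0,0,0,1,1,0,0,0],
   [2,0,0,0,2,2,0,0,0,0,0,1,0,0],
   [1,0,0,0,0,1,2,0,0,0,2,2,0,0],
   [2,2,2,1,1,0,2,1,2,2,0,2,2,2],
   [2,1,2,1,1,0,2,0,0,0,1,0,0,1]] := by decide +kernel

theorem rel4_5 : ([1, 0, 0, 1, 0, 1, 1, 0, 1, 1, 0, 1, 1, 0, 1, 0, 1, 0, 1, 0, 1, 1, 1, 0] : List ℕ).foldr (fun g M => lmul M ([aLit, bLit].getD g lone)) ([[0,0,0,0,0,2,1,0,0,2,1,2,0,0],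
   [2,2,2,0,0,1,0,2,2,0,2,1,1,1],
   [2,2,0,2,0,0,2,0,0,0,2,1,1,1],
   [1,0,1,0,2,1,1,1,1,1,2,0,1,2],
   [2,0,0,0,1,0,1,0,0,1,2,1,0,0],
   [1,0,0,0,2,0,1,0,0,2,2,0,0,0],
   [0,0,0,0,1,1,1,0,0,2,1,0,0,0],
   [0,2,2,2,2,2,1,2,1,0,0,0,0,0],
   [1,2,0,2,2,1,1,2,0,1,2,0,1,2],
   [2,0,0,0,2,2,0,0,0,1,1,0,0,0],
   [2,0,0,0,2,2,0,0,0,0,0,1,0,0],
   [1,0,0,0,0,1,2,0,0,0,2,2,0,0],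
   [2,2,2,1,1,0,2,1,2,2,0,2,2,2],
   [2,1,2,1,1,0,2,0,0,0,1,0,0,1]]) =
    [[2,0,0,0,2,0,1,0,0,2,2,2,0,0],
   [2,0,2,0,1,1,0,2,1,0,0,0,1,1],
   [2,2,0,2,1,1,0,1,2,1,1,2,0,1],
   [1,0,2,2,1,1,0,0,2,1,1,2,1,2],
   [0,0,0,0,2,1,0,0,0,2,2,2,0,0],
   [1,0,0,0,1,2,1,0,0,0,1,0,0,0],
   [1,0,0,0,2,2,1,0,0,1,2,0,0,0],
   [1,1,1,2,0,2,1,2,0,2,2,1,0,2],
   [2,1,1,0,1,0,1,2,2,2,2,1,2,1],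
   [1,0,0,0,1,1,2,0,0,1,2,1,0,0],
   [2,0,0,0,0,1,0,0,0,0,2,1,0,0],
   [1,0,0,0,0,2,0,0,0,2,1,1,0,0],
   [2,2,2,0,2,2,2,0,1,1,2,0,2,1],
   [0,0,0,0,0,0,0,1,0,1,0,2,1,1]] := by decide +kernel

theorem rel4_6 : ([1, 0, 1, 1, 0, 1, 0, 1, 0, 1, 1, 0, 1, 0, 1, 1, 0, 1, 0, 1, 0, 1, 1, 0] : List ℕ).foldr (fun g M => lmul M ([aLit, bLit].getD g lone)) ([[2,0,0,0,2,0,1,0,0,2,2,2,0,0],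
   [2,0,2,0,1,1,0,2,1,0,0,0,1,1],
   [2,2,0,2,1,1,0,1,2,1,1,2,0,1],
   [1,0,2,2,1,1,0,0,2,1,1,2,1,2],
   [0,0,0,0,2,1,0,0,0,2,2,2,0,0],
   [1,0,0,0,1,2,1,0,0,0,1,0,0,0],
   [1,0,0,0,2,2,1,0,0,1,2,0,0,0],
   [1,1,1,2,0,2,1,2,0,2,2,1,0,2],
   [2,1,1,0,1,0,1,2,2,2,2,1,2,1],
   [1,0,0,0,1,1,2,0,0,1,2,1,0,0],
   [2,0,0,0,0,1,0,0,0,0,2,1,0,0],
   [1,0,0,0,0,2,0,0,0,2,1,1,0,0],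
   [2,2,2,0,2,2,2,0,1,1,2,0,2,1],
   [0,0,0,0,0,0,0,1,0,1,0,2,1,1]]) =
    [[2,0,0,0,1,0,0,0,0,1,2,0,0,0],
   [2,2,1,1,1,1,0,2,2,2,2,1,2,0],
   [0,2,1,2,1,1,0,0,1,2,2,1,1,0],
   [0,2,0,2,2,1,2,2,0,0,2,2,1,1],
   [2,0,0,0,2,2,2,0,0,2,1,1,0,0],
   [0,0,0,0,2,1,0,0,0,1,1,1,0,0],
   [0,0,0,0,1,1,2,0,0,0,1,2,0,0],
   [1,2,2,0,0,0,0,1,0,0,0,0,1,1],
   [2,0,2,0,2,1,2,2,1,0,2,2,1,2],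
   [0,0,0,0,0,2,0,0,0,0,0,2,0,0],
   [2,0,0,0,2,0,1,0,0,2,1,0,0,0],
   [0,0,0,0,2,2,0,0,0,0,1,2,0,0],
   [1,2,2,0,0,0,0,0,0,0,0,0,0,1],
   [2,1,1,1,1,2,0,1,2,0,2,2,1,2]] := by decide +kernel

theorem rel4_7 : ([1, 0] : List ℕ).foldr (fun g M => lmul M ([aLit, bLit].getD g lone)) ([[2,0,0,0,1,0,0,0,0,1,2,0,0,0],
   [2,2,1,1,1,1,0,2,2,2,2,1,2,0],
   [0,2,1,2,1,1,0,0,1,2,2,1,1,0],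
   [0,2,0,2,2,1,2,2,0,0,2,2,1,1],
   [2,0,0,0,2,2,2,0,0,2,1,1,0,0],
   [0,0,0,0,2,1,0,0,0,1,1,1,0,0],
   [0,0,0,0,1,1,2,0,0,0,1,2,0,0],
   [1,2,2,0,0,0,0,1,0,0,0,0,1,1],
   [2,0,2,0,2,1,2,2,1,0,2,2,1,2],
   [0,0,0,0,0,2,0,0,0,0,0,2,0,0],
   [2,0,0,0,2,0,1,0,0,2,1,0,0,0],
   [0,0,0,0,2,2,0,0,0,0,1,2,0,0],
   [1,2,2,0,0,0,0,0,0,0,0,0,0,1],
   [2,1,1,1,1,2,0,1,2,0,2,2,1,2]]) =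
    lone := by decide +kernel

theorem rel4 : mT [aLit, bLit] [1, 0, 1, 0, 1, 1, 0, 1, 0, 1, 0, 1, 1, 0, 1, 0, 1, 1, 0, 1, 0, 1, 0, 1, 1, 0, 1, 0, 0, 1, 0, 1, 1, 0, 1, 1, 0, 1, 1, 0, 1, 0, 1, 0, 1, 0, 1, 1, 1, 0, 1, 1, 0, 1, 0, 1, 0, 1, 0, 1, 1, 1, 0, 1, 1, 0, 1, 0, 1, 0, 1, 0, 1, 1, 1, 0, 1, 1, 0, 1, 0, 1, 0, 1, 0, 1, 0, 1, 0, 1, 1, 0, 1, 1, 0, 1, 1, 0, 1, 0, 1, 0, 1, 0, 1, 1, 1, 0, 1, 1, 0, 1, 0, 1, 0, 1, 0, 1, 1, 1, 0, 1, 1, 0, 1, 0, 1, 0, 1, 0, 1, 1, 1, 0, 1, 1, 0, 1, 0, 1, 0, 1, 0, 1, 1, 1, 0, 1, 1, 0, 1, 0, 1, 0, 1, 0, 1, 1, 1, 0, 1, 1, 0, 1, 0, 1, 0, 1, 0, 1] = lone := by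
  rw [show ([1, 0, 1, 0, 1, 1, 0, 1, 0, 1, 0, 1, 1, 0, 1, 0, 1, 1, 0, 1, 0, 1, 0, 1, 1, 0, 1, 0, 0, 1, 0, 1, 1, 0, 1, 1, 0, 1, 1, 0, 1, 0, 1, 0, 1, 0, 1, 1, 1, 0, 1, 1, 0, 1, 0, 1, 0, 1, 0, 1, 1, 1, 0, 1, 1, 0, 1, 0, 1, 0, 1, 0, 1, 1, 1, 0, 1, 1, 0, 1, 0, 1, 0, 1, 0, 1, 0, 1, 0, 1, 1, 0, 1, 1, 0, 1, 1, 0, 1, 0, 1, 0, 1, 0, 1, 1, 1, 0, 1, 1, 0, 1, 0, 1, 0, 1, 0, 1, 1, 1, 0, 1, 1, 0, 1, 0, 1, 0, 1, 0, 1, 1, 1, 0, 1, 1, 0, 1, 0, 1, 0, 1, 0, 1, 1, 1, 0, 1, 1, 0, 1, 0, 1, 0, 1, 0, 1, 1, 1, 0, 1, 1, 0, 1, 0, 1, 0, 1, 0, 1] : List ℕ) = ([1, 0] : List ℕ) ++ (([1, 0, 1, 1, 0, 1, 0, 1, 0, 1, 1, 0, 1, 0, 1, 1, 0, 1, 0, 1, 0, 1, 1, 0] : List ℕ) ++ (([1, 0, 0, 1, 0, 1, 1, 0, 1, 1, 0, 1, 1, 0, 1, 0, 1, 0, 1, 0,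 1, 1, 1, 0] : List ℕ) ++ (([1, 1, 0, 1, 0, 1, 0, 1, 0, 1, 1, 1, 0, 1, 1, 0, 1, 0, 1, 0, 1, 0, 1, 1] : List ℕ) ++ (([1, 0, 1, 1, 0, 1, 0, 1, 0, 1, 0, 1, 0, 1, 0, 1, 1, 0, 1, 1, 0, 1, 1, 0] : List ℕ) ++ (([1, 0, 1, 0, 1, 0, 1, 1, 1, 0, 1, 1, 0, 1, 0, 1, 0, 1, 0, 1, 1, 1, 0, 1] : List ℕ) ++ (([1, 0, 1, 0, 1, 0, 1, 0, 1, 1, 1, 0, 1, 1, 0, 1, 0, 1, 0, 1, 0, 1, 1, 1] : List ℕ) ++ (([0, 1, 1, 0, 1, 0, 1, 0, 1, 0, 1, 1, 1, 0, 1, 1, 0, 1, 0, 1, 0, 1, 0, 1] : List ℕ)))))))) from rfl, mT_eq_foldr, List.foldr_append, List.foldr_append, List.foldr_append, List.foldr_append, List.foldr_append, List.foldr_append, List.foldr_append,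
    rel4_0, rel4_1, rel4_2, rel4_3, rel4_4, rel4_5, rel4_6, rel4_7]

theorem rel5_0 : ([1, 0, 1, 0, 1, 0, 1, 0, 1, 1, 0, 1, 1, 0, 1, 1, 0, 1, 0, 1, 0, 1, 0, 1] : List ℕ).foldr (fun g M => lmul M ([aLit, bLit].getD g lone)) (lone) =
    [[1,0,0,0,2,2,0,0,0,2,0,0,0,0],
   [2,2,1,2,0,0,0,1,2,0,2,2,2,0],
   [0,1,2,1,2,0,2,1,0,1,1,2,0,1],
   [0,1,2,2,0,2,2,2,1,1,2,0,2,1],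
   [1,0,0,0,2,2,2,0,0,1,2,1,0,0],
   [1,0,0,0,1,2,0,0,0,2,0,2,0,0],
   [2,0,0,0,1,2,2,0,0,0,0,2,0,0],
   [0,1,1,1,2,1,2,0,0,2,1,2,1,1],
   [2,0,2,0,2,1,2,1,1,2,2,0,1,1],
   [1,0,0,0,2,0,2,0,0,0,2,1,0,0],
   [1,0,0,0,1,0,2,0,0,2,2,1,0,0],
   [0,0,0,0,1,1,1,0,0,1,0,2,0,0],
   [0,2,2,0,1,2,2,0,2,1,0,1,2,1],
   [2,1,1,2,1,2,2,2,2,1,0,1,0,1]] := by decide +kernel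

theorem rel5_1 : ([1, 1, 0, 1, 0, 1, 0, 1, 0, 1, 0, 1, 0, 1, 1, 0, 1, 1, 0, 1, 1, 0, 1, 0] : List ℕ).foldr (fun g M => lmul M ([aLit, bLit].getD g lone)) ([[1,0,0,0,2,2,0,0,0,2,0,0,0,0],
   [2,2,1,2,0,0,0,1,2,0,2,2,2,0],
   [0,1,2,1,2,0,2,1,0,1,1,2,0,1],
   [0,1,2,2,0,2,2,2,1,1,2,0,2,1],
   [1,0,0,0,2,2,2,0,0,1,2,1,0,0],
   [1,0,0,0,1,2,0,0,0,2,0,2,0,0],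
   [2,0,0,0,1,2,2,0,0,0,0,2,0,0],
   [0,1,1,1,2,1,2,0,0,2,1,2,1,1],
   [2,0,2,0,2,1,2,1,1,2,2,0,1,1],
   [1,0,0,0,2,0,2,0,0,0,2,1,0,0],
   [1,0,0,0,1,0,2,0,0,2,2,1,0,0],
   [0,0,0,0,1,1,1,0,0,1,0,2,0,0],
   [0,2,2,0,1,2,2,0,2,1,0,1,2,1],
   [2,1,1,2,1,2,2,2,2,1,0,1,0,1]]) =
    [[2,0,0,0,0,0,0,0,0,1,1,2,0,0],
   [1,1,0,0,0,0,0,0,2,1,2,2,0,1],
   [1,2,2,2,1,0,2,0,0,0,2,0,0,1],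
   [0,1,0,0,0,0,0,2,1,1,2,1,2,2],
   [1,0,0,0,0,1,1,0,0,0,2,1,0,0],
   [1,0,0,0,1,1,2,0,0,0,1,1,0,0],
   [0,0,0,0,0,0,0,0,0,1,2,2,0,0],
   [1,1,0,2,2,1,0,2,2,1,2,2,2,2],
   [0,0,0,0,0,0,0,0,0,0,0,0,2,1],
   [2,0,0,0,0,0,1,0,0,2,0,1,0,0],
   [0,0,0,0,0,0,0,0,0,0,0,1,0,0],
   [0,0,0,0,0,0,0,0,0,0,1,2,0,0],
   [0,0,0,0,0,0,0,0,2,0,2,2,1,2],
   [0,0,0,0,0,0,0,0,0,0,0,0,0,2]] := by decide +kernel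

theorem rel5_2 : ([0, 1, 0, 1, 0, 1, 0, 1, 1, 1, 0, 1, 1, 0, 1, 0, 1, 0, 1, 0, 1, 1, 1, 0] : List ℕ).foldr (fun g M => lmul M ([aLit, bLit].getD g lone)) ([[2,0,0,0,0,0,0,0,0,1,1,2,0,0],
   [1,1,0,0,0,0,0,0,2,1,2,2,0,1],
   [1,2,2,2,1,0,2,0,0,0,2,0,0,1],
   [0,1,0,0,0,0,0,2,1,1,2,1,2,2],
   [1,0,0,0,0,1,1,0,0,0,2,1,0,0],
   [1,0,0,0,1,1,2,0,0,0,1,1,0,0],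
   [0,0,0,0,0,0,0,0,0,1,2,2,0,0],
   [1,1,0,2,2,1,0,2,2,1,2,2,2,2],
   [0,0,0,0,0,0,0,0,0,0,0,0,2,1],
   [2,0,0,0,0,0,1,0,0,2,0,1,0,0],
   [0,0,0,0,0,0,0,0,0,0,0,1,0,0],
   [0,0,0,0,0,0,0,0,0,0,1,2,0,0],
   [0,0,0,0,0,0,0,0,2,0,2,2,1,2],
   [0,0,0,0,0,0,0,0,0,0,0,0,0,2]]) =
    [[2,0,0,0,1,2,0,0,0,0,0,0,0,0],
   [1,1,2,1,1,1,2,2,1,1,0,0,1,0],
   [1,1,0,1,0,0,1,0,1,0,1,2,2,1],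
   [0,0,2,2,1,2,1,2,1,2,1,2,1,1],
   [2,0,0,0,1,0,1,0,0,1,0,1,0,0],
   [2,0,0,0,1,0,2,0,0,1,2,0,0,0],
   [2,0,0,0,0,2,2,0,0,2,2,0,0,0],
   [1,2,2,1,2,2,0,2,2,0,1,2,2,1],
   [0,1,1,1,2,1,2,0,0,2,1,2,1,1],
   [2,0,0,0,0,1,2,0,0,1,0,1,0,0],
   [2,0,0,0,2,1,0,0,0,1,0,1,0,0],
   [2,0,0,0,0,1,2,0,0,0,2,0,0,0],
   [0,1,0,0,0,0,0,1,2,1,1,2,0,1],
   [0,1,2,1,2,0,2,1,0,1,1,2,0,1]] := by decide +kernel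

theorem rel5_3 : ([1, 1, 0, 1, 1, 0, 1, 0, 1, 0, 1, 0, 1, 0, 1, 0, 1, 1, 0, 1, 1, 0, 1, 1] : List ℕ).foldr (fun g M => lmul M ([aLit, bLit].getD g lone)) ([[2,0,0,0,1,2,0,0,0,0,0,0,0,0],
   [1,1,2,1,1,1,2,2,1,1,0,0,1,0],
   [1,1,0,1,0,0,1,0,1,0,1,2,2,1],
   [0,0,2,2,1,2,1,2,1,2,1,2,1,1],
   [2,0,0,0,1,0,1,0,0,1,0,1,0,0],
   [2,0,0,0,1,0,2,0,0,1,2,0,0,0],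
   [2,0,0,0,0,2,2,0,0,2,2,0,0,0],
   [1,2,2,1,2,2,0,2,2,0,1,2,2,1],
   [0,1,1,1,2,1,2,0,0,2,1,2,1,1],
   [2,0,0,0,0,1,2,0,0,1,0,1,0,0],
   [2,0,0,0,2,1,0,0,0,1,0,1,0,0],
   [2,0,0,0,0,1,2,0,0,0,2,0,0,0],
   [0,1,0,0,0,0,0,1,2,1,1,2,0,1],
   [0,1,2,1,2,0,2,1,0,1,1,2,0,1]]) =
    [[2,0,0,0,2,0,0,0,0,0,2,0,0,0],
   [2,0,1,2,1,1,2,2,2,2,0,2,2,2],
   [1,2,0,2,1,1,2,1,2,2,0,2,0,2],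
   [2,1,2,0,0,2,0,2,0,1,0,1,0,1],
   [1,0,0,0,2,1,0,0,0,0,2,0,0,0],
   [0,0,0,0,1,2,1,0,0,2,0,1,0,0],
   [0,0,0,0,0,1,0,0,0,1,0,2,0,0],
   [1,1,1,2,0,0,0,2,0,0,0,0,1,0],
   [2,1,2,0,0,2,0,0,0,1,0,1,2,1],
   [0,0,0,0,0,2,1,0,0,0,0,1,0,0],
   [1,0,0,0,2,0,0,0,0,0,2,1,0,0],
   [0,0,0,0,0,1,2,0,0,1,1,2,0,0],
   [0,1,0,0,0,0,0,1,2,0,0,0,2,2],
   [2,1,2,1,0,2,1,0,1,1,1,1,2,0]] := by decide +kernel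

theorem rel5_4 : ([1, 0, 1, 0, 1, 1, 1, 0, 1, 1, 0, 1, 0, 1, 0, 1, 0, 1, 0, 1, 0, 1, 1, 0] : List ℕ).foldr (fun g M => lmul M ([aLit, bLit].getD g lone)) ([[2,0,0,0,2,0,0,0,0,0,2,0,0,0],
   [2,0,1,2,1,1,2,2,2,2,0,2,2,2],
   [1,2,0,2,1,1,2,1,2,2,0,2,0,2],
   [2,1,2,0,0,2,0,2,0,1,0,1,0,1],
   [1,0,0,0,2,1,0,0,0,0,2,0,0,0],
   [0,0,0,0,1,2,1,0,0,2,0,1,0,0],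
   [0,0,0,0,0,1,0,0,0,1,0,2,0,0],
   [1,1,1,2,0,0,0,2,0,0,0,0,1,0],
   [2,1,2,0,0,2,0,0,0,1,0,1,2,1],
   [0,0,0,0,0,2,1,0,0,0,0,1,0,0],
   [1,0,0,0,2,0,0,0,0,0,2,1,0,0],
   [0,0,0,0,0,1,2,0,0,1,1,2,0,0],
   [0,1,0,0,0,0,0,1,2,0,0,0,2,2],
   [2,1,2,1,0,2,1,0,1,1,1,1,2,0]]) =
    [[2,0,0,0,0,0,0,0,0,1,1,2,0,0],
   [0,0,0,0,0,0,0,2,2,2,2,0,1,2],
   [0,0,0,0,0,0,0,0,0,0,0,0,1,1],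
   [0,0,0,0,0,0,0,0,0,0,0,0,1,2],
   [0,0,0,0,0,0,0,0,0,0,0,1,0,0],
   [0,0,0,0,0,0,0,0,0,2,2,0,0,0],
   [0,0,0,0,0,0,0,0,0,2,1,1,0,0],
   [0,2,0,0,0,0,0,2,1,0,0,0,2,2],
   [0,2,0,0,0,0,0,1,2,2,1,2,1,1],
   [0,0,0,0,0,2,1,0,0,1,1,2,0,0],
   [1,0,0,0,0,1,1,0,0,0,2,1,0,0],
   [1,0,0,0,1,1,2,0,0,1,0,0,0,0],
   [2,0,1,2,0,2,1,2,2,2,2,2,1,0],
   [1,0,2,2,1,0,2,2,1,1,1,1,2,0]] := by decide +kernel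

theorem rel5_5 : ([0, 1, 1, 1, 1, 0, 1, 1, 0, 1, 0, 1, 0, 1, 0, 1, 1, 1, 0, 1, 1, 0, 1, 0] : List ℕ).foldr (fun g M => lmul M ([aLit, bLit].getD g lone)) ([[2,0,0,0,0,0,0,0,0,1,1,2,0,0],
   [0,0,0,0,0,0,0,2,2,2,2,0,1,2],
   [0,0,0,0,0,0,0,0,0,0,0,0,1,1],
   [0,0,0,0,0,0,0,0,0,0,0,0,1,2],
   [0,0,0,0,0,0,0,0,0,0,0,1,0,0],
   [0,0,0,0,0,0,0,0,0,2,2,0,0,0],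
   [0,0,0,0,0,0,0,0,0,2,1,1,0,0],
   [0,2,0,0,0,0,0,2,1,0,0,0,2,2],
   [0,2,0,0,0,0,0,1,2,2,1,2,1,1],
   [0,0,0,0,0,2,1,0,0,1,1,2,0,0],
   [1,0,0,0,0,1,1,0,0,0,2,1,0,0],
   [1,0,0,0,1,1,2,0,0,1,0,0,0,0],
   [2,0,1,2,0,2,1,2,2,2,2,2,1,0],
   [1,0,2,2,1,0,2,2,1,1,1,1,2,0]]) =
    [[0,0,0,0,2,2,0,0,0,0,0,2,0,0],
   [2,0,1,2,1,1,1,2,1,1,0,1,0,2],
   [2,2,1,0,1,2,1,0,2,2,2,0,2,2],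
   [2,2,1,1,0,1,1,2,0,2,1,1,0,2],
   [2,0,0,0,1,2,2,0,0,1,1,1,0,0],
   [0,0,0,0,2,2,1,0,0,1,1,0,0,0],
   [2,0,0,0,1,0,0,0,0,2,0,2,0,0],
   [1,0,0,2,2,1,2,2,2,1,1,0,1,1],
   [1,1,0,2,0,0,2,0,0,0,2,2,1,1],
   [1,0,0,0,0,0,2,0,0,1,1,2,0,0],
   [1,0,0,0,2,0,1,0,0,1,2,2,0,0],
   [1,0,0,0,1,1,1,0,0,0,1,1,0,0],
   [2,0,0,1,1,2,1,1,2,2,0,1,1,2],
   [0,2,2,1,2,2,0,1,1,2,2,1,1,0]] := by decide +kernel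

theorem rel5_6 : ([0, 1, 0, 1, 0, 1, 0, 1, 0, 1, 1, 0, 1, 0, 1, 0, 1, 0, 1, 1, 0, 1, 0, 1] : List ℕ).foldr (fun g M => lmul M ([aLit, bLit].getD g lone)) ([[0,0,0,0,2,2,0,0,0,0,0,2,0,0],
   [2,0,1,2,1,1,1,2,1,1,0,1,0,2],
   [2,2,1,0,1,2,1,0,2,2,2,0,2,2],
   [2,2,1,1,0,1,1,2,0,2,1,1,0,2],
   [2,0,0,0,1,2,2,0,0,1,1,1,0,0],
   [0,0,0,0,2,2,1,0,0,1,1,0,0,0],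
   [2,0,0,0,1,0,0,0,0,2,0,2,0,0],
   [1,0,0,2,2,1,2,2,2,1,1,0,1,1],
   [1,1,0,2,0,0,2,0,0,0,2,2,1,1],
   [1,0,0,0,0,0,2,0,0,1,1,2,0,0],
   [1,0,0,0,2,0,1,0,0,1,2,2,0,0],
   [1,0,0,0,1,1,1,0,0,0,1,1,0,0],
   [2,0,0,1,1,2,1,1,2,2,0,1,1,2],
   [0,2,2,1,2,2,0,1,1,2,2,1,1,0]]) =
    [[2,0,0,0,0,0,0,0,0,2,0,2,0,0],
   [0,1,1,1,2,1,2,1,0,2,1,2,2,1],
   [0,0,1,0,0,2,0,0,0,2,0,0,2,0],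
   [0,0,2,0,0,1,0,1,0,1,0,0,1,0],
   [0,0,0,0,0,1,0,0,0,2,0,0,0,0],
   [2,0,0,0,2,1,0,0,0,2,0,1,0,0],
   [1,0,0,0,1,2,0,0,0,0,0,2,0,0],
   [1,0,1,2,1,0,1,1,0,1,2,2,2,2],
   [1,2,0,1,2,2,2,2,0,2,1,0,2,1],
   [2,0,0,0,0,1,2,0,0,0,2,2,0,0],
   [2,0,0,0,0,0,2,0,0,1,2,1,0,0],
   [2,0,0,0,2,1,0,0,0,0,1,2,0,0],
   [1,2,1,2,1,0,1,0,1,0,1,0,0,2],
   [2,1,0,2,1,1,1,1,1,1,1,1,2,0]] := by decide +kernel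

theorem rel5_7 : ([0, 1, 1, 0, 1, 1, 0, 1, 1] : List ℕ).foldr (fun g M => lmul M ([aLit, bLit].getD g lone)) ([[2,0,0,0,0,0,0,0,0,2,0,2,0,0],
   [0,1,1,1,2,1,2,1,0,2,1,2,2,1],
   [0,0,1,0,0,2,0,0,0,2,0,0,2,0],
   [0,0,2,0,0,1,0,1,0,1,0,0,1,0],
   [0,0,0,0,0,1,0,0,0,2,0,0,0,0],
   [2,0,0,0,2,1,0,0,0,2,0,1,0,0],
   [1,0,0,0,1,2,0,0,0,0,0,2,0,0],
   [1,0,1,2,1,0,1,1,0,1,2,2,2,2],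
   [1,2,0,1,2,2,2,2,0,2,1,0,2,1],
   [2,0,0,0,0,1,2,0,0,0,2,2,0,0],
   [2,0,0,0,0,0,2,0,0,1,2,1,0,0],
   [2,0,0,0,2,1,0,0,0,0,1,2,0,0],
   [1,2,1,2,1,0,1,0,1,0,1,0,0,2],
   [2,1,0,2,1,1,1,1,1,1,1,1,2,0]]) =
    lone := by decide +kernel

theorem rel5 : mT [aLit, bLit] [0, 1, 1, 0, 1, 1, 0, 1, 1, 0, 1, 0, 1, 0, 1, 0, 1, 0, 1, 1, 0, 1, 0, 1, 0, 1, 0, 1, 1, 0, 1, 0, 1, 0, 1, 1, 1, 1, 0, 1, 1, 0, 1, 0, 1, 0, 1, 0, 1, 1, 1, 0, 1, 1, 0, 1, 0, 1, 0, 1, 0, 1, 1, 1, 0, 1, 1, 0, 1, 0, 1, 0, 1, 0, 1, 0, 1, 0, 1, 1, 0, 1, 1, 0, 1, 1, 0, 1, 0, 1, 0, 1, 0, 1, 0, 1, 0, 1, 1, 0, 1, 1, 0, 1, 1, 0, 1, 0, 1, 0, 1, 0, 1, 1, 1, 0, 1, 1, 0, 1, 0, 1, 0, 1, 0, 1, 1, 1, 0, 1, 1, 0, 1, 0, 1, 0, 1, 0, 1, 0, 1, 0, 1, 1, 0, 1,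 1, 0, 1, 1, 0, 1, 0, 1, 0, 1, 0, 1, 0, 1, 0, 1, 1, 0, 1, 1, 0, 1, 1, 0, 1, 0, 1, 0, 1, 0, 1] = lone := by
  rw [show ([0, 1, 1, 0, 1, 1, 0, 1, 1, 0, 1, 0, 1, 0, 1, 0, 1, 0, 1, 1, 0, 1, 0, 1, 0, 1, 0, 1, 1, 0, 1, 0, 1, 0, 1, 1, 1, 1, 0, 1, 1, 0, 1, 0, 1, 0, 1, 0, 1, 1, 1, 0, 1, 1, 0, 1, 0, 1, 0, 1, 0, 1, 1, 1, 0, 1, 1, 0, 1, 0, 1, 0, 1, 0, 1, 0, 1, 0, 1, 1, 0, 1, 1, 0, 1, 1, 0, 1, 0, 1, 0, 1, 0, 1, 0, 1, 0, 1, 1, 0, 1, 1, 0, 1, 1, 0, 1, 0, 1, 0, 1, 0, 1, 1, 1, 0, 1, 1, 0, 1, 0, 1, 0, 1, 0, 1, 1, 1, 0, 1, 1, 0, 1, 0, 1, 0, 1, 0, 1, 0, 1, 0, 1, 1, 0, 1, 1, 0, 1, 1, 0, 1, 0, 1, 0, 1, 0, 1, 0, 1, 0, 1, 1, 0, 1, 1, 0, 1, 1, 0, 1, 0, 1, 0, 1, 0, 1] : List ℕ) = ([0, 1, 1, 0, 1, 1, 0, 1, 1] : List ℕ) ++ (([0,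 1, 0, 1, 0, 1, 0, 1, 0, 1, 1, 0, 1, 0, 1, 0, 1, 0, 1, 1, 0, 1, 0, 1] : List ℕ) ++ (([0, 1, 1, 1, 1, 0, 1, 1, 0, 1, 0, 1, 0, 1, 0, 1, 1, 1, 0, 1, 1, 0, 1, 0] : List ℕ) ++ (([1, 0, 1, 0, 1, 1, 1, 0, 1, 1, 0, 1, 0, 1, 0, 1, 0, 1, 0, 1, 0, 1, 1, 0] : List ℕ) ++ (([1, 1, 0, 1, 1, 0, 1, 0, 1, 0, 1, 0, 1, 0, 1, 0, 1, 1, 0, 1, 1, 0, 1, 1] : List ℕ) ++ (([0, 1, 0, 1, 0, 1, 0, 1, 1, 1, 0, 1, 1, 0, 1, 0, 1, 0, 1, 0, 1, 1, 1, 0] : List ℕ) ++ (([1, 1, 0, 1, 0, 1, 0, 1, 0, 1, 0, 1, 0, 1, 1, 0, 1, 1, 0, 1, 1, 0, 1, 0] : List ℕ) ++ (([1, 0, 1, 0, 1, 0, 1, 0, 1, 1, 0, 1, 1, 0, 1, 1, 0, 1, 0, 1, 0, 1, 0, 1] : List ℕ)))))))) from rfl, mT_eq_foldr, List.foldr_append, List.foldr_append, List.foldr_append, List.foldr_append,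 List.foldr_append, List.foldr_append, List.foldr_append,
    rel5_0, rel5_1, rel5_2, rel5_3, rel5_4, rel5_5, rel5_6, rel5_7]

theorem srel0_0 : ([0, 0] : List ℕ).foldr (fun g M => lmul M ([cLit, dLit].getD g lone)) (lone) =
    lone := by decide +kernel

theorem srel0 : mT [cLit, dLit] [0, 0] = lone := by
  rw [show ([0, 0] : List ℕ) = ([0, 0] : List ℕ) from rfl, mT_eq_foldr,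
    srel0_0]

theorem srel1_0 : ([1, 1, 1, 1, 1, 1, 1, 1, 1, 1, 1, 1, 1] : List ℕ).foldr (fun g M => lmul M ([cLit, dLit].getD g lone)) (lone) =
    lone := by decide +kernel

theorem srel1 : mT [cLit, dLit] [1, 1, 1, 1, 1, 1, 1, 1, 1, 1, 1, 1, 1] = lone := by
  rw [show ([1, 1, 1, 1, 1, 1, 1, 1, 1, 1, 1, 1, 1] : List ℕ) = ([1, 1, 1, 1, 1, 1, 1, 1, 1, 1, 1, 1, 1] : List ℕ) from rfl, mT_eq_foldr,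
    srel1_0]

theorem srel2_0 : ([0, 1, 0, 1, 0, 1, 0, 1] : List ℕ).foldr (fun g M => lmul M ([cLit, dLit].getD g lone)) (lone) =
    lone := by decide +kernel

theorem srel2 : mT [cLit, dLit] [0, 1, 0, 1, 0, 1, 0, 1] = lone := by
  rw [show ([0, 1, 0, 1, 0, 1, 0, 1] : List ℕ) = ([0, 1, 0, 1, 0, 1, 0, 1] : List ℕ) from rfl, mT_eq_foldr,
    srel2_0]

theorem srel3_0 : ([0, 1, 1, 0, 1, 1, 0, 1, 1, 0, 1, 1] : List ℕ).foldr (fun g M => lmul M ([cLit, dLit].getD g lone)) (lone) =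
    lone := by decide +kernel

theorem srel3 : mT [cLit, dLit] [0, 1, 1, 0, 1, 1, 0, 1, 1, 0, 1, 1] = lone := by
  rw [show ([0, 1, 1, 0, 1, 1, 0, 1, 1, 0, 1, 1] : List ℕ) = ([0, 1, 1, 0, 1, 1, 0, 1, 1, 0, 1, 1] : List ℕ) from rfl, mT_eq_foldr,
    srel3_0]

theorem srel4_0 : ([0, 1, 1, 1, 1, 0, 1, 1, 1, 1, 0, 1, 1, 1, 1] : List ℕ).foldr (fun g M => lmul M ([cLit, dLit].getD g lone)) (lone) =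
    lone := by decide +kernel

theorem srel4 : mT [cLit, dLit] [0, 1, 1, 1, 1, 0, 1, 1, 1, 1, 0, 1, 1, 1, 1] = lone := by
  rw [show ([0, 1, 1, 1, 1, 0, 1, 1, 1, 1, 0, 1, 1, 1, 1] : List ℕ) = ([0, 1, 1, 1, 1, 0, 1, 1, 1, 1, 0, 1, 1, 1, 1] : List ℕ) from rfl, mT_eq_foldr,
    srel4_0]

theorem srel5_0 : ([1, 1, 1, 1, 0, 1, 1, 1, 1, 1, 1, 1, 1, 1, 0, 1, 1, 1, 1, 1, 1, 1, 1, 1] : List ℕ).foldr (fun g M => lmul M ([cLit, dLit].getD g lone)) (lone) =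
    [[2,0,0,0,2,2,1,0,0,2,1,1,0,0],
   [1,1,2,1,2,1,2,0,0,0,1,1,0,0],
   [2,1,1,0,1,0,1,1,2,1,2,2,1,0],
   [0,2,1,1,1,0,1,1,1,1,2,2,0,1],
   [0,0,0,0,1,0,2,0,0,1,2,1,0,0],
   [2,0,0,0,0,1,0,0,0,0,2,1,0,0],
   [2,0,0,0,1,1,0,0,0,1,1,1,0,0],
   [1,2,2,0,2,0,2,0,1,0,1,0,0,1],
   [1,1,2,1,1,1,1,1,1,0,2,1,1,0],
   [1,0,0,0,2,2,1,0,0,0,2,2,0,0],
   [2,0,0,0,2,0,2,0,0,1,0,0,0,0],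
   [1,0,0,0,0,1,1,0,0,2,0,0,0,0],
   [0,2,2,2,1,1,0,2,2,2,1,2,2,0],
   [0,0,2,2,1,1,0,1,0,0,0,0,0,0]] := by decide +kernel

theorem srel5_1 : ([0, 1, 1, 1, 1, 1] : List ℕ).foldr (fun g M => lmul M ([cLit, dLit].getD g lone)) ([[2,0,0,0,2,2,1,0,0,2,1,1,0,0],
   [1,1,2,1,2,1,2,0,0,0,1,1,0,0],
   [2,1,1,0,1,0,1,1,2,1,2,2,1,0],
   [0,2,1,1,1,0,1,1,1,1,2,2,0,1],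
   [0,0,0,0,1,0,2,0,0,1,2,1,0,0],
   [2,0,0,0,0,1,0,0,0,0,2,1,0,0],
   [2,0,0,0,1,1,0,0,0,1,1,1,0,0],
   [1,2,2,0,2,0,2,0,1,0,1,0,0,1],
   [1,1,2,1,1,1,1,1,1,0,2,1,1,0],
   [1,0,0,0,2,2,1,0,0,0,2,2,0,0],
   [2,0,0,0,2,0,2,0,0,1,0,0,0,0],
   [1,0,0,0,0,1,1,0,0,2,0,0,0,0],
   [0,2,2,2,1,1,0,2,2,2,1,2,2,0],
   [0,0,2,2,1,1,0,1,0,0,0,0,0,0]]) =
    lone := by decide +kernel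

theorem srel5 : mT [cLit, dLit] [0, 1, 1, 1, 1, 1, 1, 1, 1, 1, 0, 1, 1, 1, 1, 1, 1, 1, 1, 1, 0, 1, 1, 1, 1, 1, 1, 1, 1, 1] = lone := by
  rw [show ([0, 1, 1, 1, 1, 1, 1, 1, 1, 1, 0, 1, 1, 1, 1, 1, 1, 1, 1, 1, 0, 1, 1, 1, 1, 1, 1, 1, 1, 1] : List ℕ) = ([0, 1, 1, 1, 1, 1] : List ℕ) ++ (([1, 1, 1, 1, 0, 1, 1, 1, 1, 1, 1, 1, 1, 1, 0, 1, 1, 1, 1, 1, 1, 1, 1, 1] : List ℕ)) from rfl, mT_eq_foldr, List.foldr_append,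
    srel5_0, srel5_1]

theorem rels_top (r : List ℕ) (hr : r ∈ top.rels) : mT [aLit, bLit] r = lone := by
  simp only [top, rels, List.mem_cons, List.not_mem_nil, or_false] at hr
  rcases hr with rfl | rfl | rfl | rfl | rfl | rfl
  · exact rel0
  · exact rel1
  · exact rel2
  · exact rel3
  · exact rel4
  · exact rel5

theorem rels_sub (r : List ℕ) (hr : r ∈ top.sub.rels) : mT [cLit, dLit] r = lone := by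
  simp only [top, sub, subRels, List.mem_cons, List.not_mem_nil, or_false] at hr
  rcases hr with rfl | rfl | rfl | rfl | rfl | rfl
  · exact srel0
  · exact srel1
  · exact srel2
  · exact srel3
  · exact srel4
  · exact srel5

theorem rels_letters : ((top.rels ++ top.sub.rels).all fun r => r.all fun c => Nat.blt c 2) = true := by
  decide +kernel

theorem rels_eq (r : List ℕ) (hr : r ∈ top.all.rels) : ev ga gb r = 1 := by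
  have hl := rels_letters
  simp only [List.all_eq_true, Nat.blt_eq, List.mem_append] at hl
  rcases List.mem_append.mp hr with hr | hr
  · exact eq_one_of_lone (ev_spec r (hl r (Or.inl hr))) (rels_top r hr)
  · obtain ⟨s, hs, rfl⟩ := List.mem_map.mp hr
    rw [ev_flatMap]
    exact eq_one_of_lone (sub_spec s (hl s (Or.inr hs))) (rels_sub s hs)

end Cfsg.Agent.H12.CExt.G23
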